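import Cfsg.Agent.Lib.H64.TCHSE.Data
import Cfsg.Agent.Lib.H35.TCIdx
set_option autoImplicit false
set_option maxRecDepth 100000
set_option linter.all false
namespace H64.TCHSE
open H35.TC
/-- letters -/
inductive Lt | m | mi | n | ni | p | pi | q | qi | d | di
  deriving DecidableEq
/-- inverse letter -/
def inv : Lt → Lt
  | .m => .mi
  | .mi => .m
  | .n => .ni
  | .ni => .n
  | .p => .pi
  | .pi => .p
  | .q => .qi
  | .qi => .q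
  | .d => .di
  | .di => .d
/-- table functions -/
noncomputable def T : Lt → ℕ → ℕ
  | .m => T_m
  | .mi => T_mi
  | .n => T_n
  | .ni => T_ni
  | .p => T_p
  | .pi => T_pi
  | .q => T_q
  | .qi => T_qi
  | .d => T_d
  | .di => T_di
/-- decoding of letter codes -/
def lt : ℕ → Lt
  | 0 => .m
  | 1 => .mi
  | 2 => .n
  | 3 => .ni
  | 4 => .p
  | 5 => .pi
  | 6 => .q
  | 7 => .qi
  | 8 => .d
  | _ => .di
/-- Coxeter matrix (0: no relation) -/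
def mm : Lt → Lt → ℕ
  | _, _ => 0
/-- extra relators `w ^ n` -/
def extra : List (List Lt × ℕ) := [
  ([.q], 3),
  ([.d], 3),
  ([.n], 3),
  ([.p, .q, .pi, .q], 2),
  ([.m, .qi, .pi, .qi], 2),
  ([.m, .p, .q, .p, .m, .qi, .pi, .qi], 1),
  ([.n, .pi, .pi, .n, .qi, .p, .ni, .p], 1),
  ([.n, .p, .ni, .qi], 2),
  ([.n, .pi, .pi, .q], 2),
  ([.n, .pi, .q, .ni, .q, .n, .qi, .p], 1),
  ([.d, .q, .pi, .di, .mi, .n, .m, .m, .m], 1),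
  ([.d, .pi, .q, .di, .m, .m, .m, .n, .mi], 1),
  ([.d, .q, .p, .di, .m, .m, .n, .mi, .mi], 1),
  ([.pi, .q, .ni, .pi, .d, .p, .n, .qi, .p, .d], 1),
  ([.m, .n, .mi, .n, .d, .ni, .m, .ni, .mi, .di], 1),
  ([.d, .p, .q, .p, .p, .qi, .pi, .di, .ni, .m], 1),
  ([.d, .q, .di, .pi, .q, .ni, .q, .n, .qi, .p], 1),
  ([.p, .d], 6),
  ([.m, .mi], 1),
  ([.mi, .m], 1),
  ([.n, .ni], 1),
  ([.ni, .n], 1),
  ([.p, .pi], 1),
  ([.pi, .p], 1),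
  ([.q, .qi], 1),
  ([.qi, .q], 1),
  ([.d, .di], 1),
  ([.di, .d], 1)]
/-- relators -/
def rels : List (List Lt) := mkRels [] mm extra
/-- subgroup words -/
def subs : List (List Lt) := [
  [.m],
  [.n],
  [.p],
  [.q]]
noncomputable def dp_m_0 (j u : ℕ) : Bool :=
  Bool.rec (motive := fun _ => Bool) (lF [T_d, T_q, T_pi, T_di, T_mi, T_n, T_m, T_m] M (Nat.sub (T_m u) (Nat.mod (T_m u) M)) (Nat.mod (T_m u) M) u) (lS MG [T_n, T_mi, T_d, T_pi, T_q, T_di, T_m, T_m] M (Nat.sub (T_m u) (Nat.mod (T_m u) M)) (nat_lit 40) (Nat.mod (T_m u) M) u) (Nat.ble (nat_lit 6) j)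
noncomputable def dp_m_1 (j u : ℕ) : Bool :=
  Bool.rec (motive := fun _ => Bool) (lF [T_qi, T_pi, T_qi, T_m, T_qi, T_pi, T_qi] M (Nat.sub (T_m u) (Nat.mod (T_m u) M)) (Nat.mod (T_m u) M) u) (dp_m_0 j u) (Nat.ble (nat_lit 5) j)
noncomputable def dp_m_2 (j u : ℕ) : Bool :=
  Bool.rec (motive := fun _ => Bool) (lS MG [T_ni, T_mi, T_di, T_m, T_n, T_mi, T_n, T_d, T_ni] M (Nat.sub (T_m u) (Nat.mod (T_m u) M)) (nat_lit 40) (Nat.mod (T_m u) M) u) (lF [T_ni, T_mi, T_mi, T_mi, T_d, T_qi, T_p, T_di] M (Nat.sub (T_m u) (Nat.mod (T_m u) M)) (Nat.mod (T_m u) M) u) (Nat.ble (nat_lit 9) j)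
noncomputable def dp_m_3 (j u : ℕ) : Bool :=
  Bool.rec (motive := fun _ => Bool) (lF [T_m, T_m, T_n, T_mi, T_d, T_pi, T_q, T_di] M (Nat.sub (T_m u) (Nat.mod (T_m u) M)) (Nat.mod (T_m u) M) u) (dp_m_2 j u) (Nat.ble (nat_lit 8) j)
noncomputable def dp_m_4 (j u : ℕ) : Bool :=
  Bool.rec (motive := fun _ => Bool) (lF [T_qi, T_pi, T_qi, T_m, T_p, T_q, T_p] M (Nat.sub (T_m u) (Nat.mod (T_m u) M)) (Nat.mod (T_m u) M) u) (lS MG [T_ni, T_mi, T_mi, T_mi, T_d, T_qi, T_p, T_di] M (Nat.sub (T_m u) (Nat.mod (T_m u) M)) (nat_lit 40) (Nat.mod (T_m u) M) u) (Nat.ble (nat_lit 12) j)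
noncomputable def dp_m_5 (j u : ℕ) : Bool :=
  Bool.rec (motive := fun _ => Bool) (lS MG [T_d, T_p, T_q, T_p, T_p, T_qi, T_pi, T_di, T_ni] M (Nat.sub (T_m u) (Nat.mod (T_m u) M)) (nat_lit 40) (Nat.mod (T_m u) M) u) (dp_m_4 j u) (Nat.ble (nat_lit 11) j)
noncomputable def dp_m_6 (j u : ℕ) : Bool :=
  Bool.rec (motive := fun _ => Bool) (dp_m_3 j u) (dp_m_5 j u) (Nat.ble (nat_lit 10) j)
noncomputable def dp_m_7 (j u : ℕ) : Bool :=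
  Bool.rec (motive := fun _ => Bool) (dp_m_1 j u) (dp_m_6 j u) (Nat.ble (nat_lit 7) j)
noncomputable def dp_m_8 (j u : ℕ) : Bool :=
  Bool.rec (motive := fun _ => Bool) (lS MG [T_qi, T_pi, T_qi, T_m, T_qi, T_pi, T_qi] M (Nat.sub (T_m u) (Nat.mod (T_m u) M)) (nat_lit 40) (Nat.mod (T_m u) M) u) (lF [T_d, T_p, T_q, T_p, T_p, T_qi, T_pi, T_di, T_ni] M (Nat.sub (T_m u) (Nat.mod (T_m u) M)) (Nat.mod (T_m u) M) u) (Nat.ble (nat_lit 14) j)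
noncomputable def dp_m_9 (j u : ℕ) : Bool :=
  Bool.rec (motive := fun _ => Bool) (lS MG [T_m, T_n, T_mi, T_d, T_pi, T_q, T_di, T_m] M (Nat.sub (T_m u) (Nat.mod (T_m u) M)) (nat_lit 40) (Nat.mod (T_m u) M) u) (lF [T_n, T_mi, T_mi, T_d, T_q, T_p, T_di, T_m] M (Nat.sub (T_m u) (Nat.mod (T_m u) M)) (Nat.mod (T_m u) M) u) (Nat.ble (nat_lit 16) j)
noncomputable def dp_m_10 (j u : ℕ) : Bool :=
  Bool.rec (motive := fun _ => Bool) (dp_m_8 j u) (dp_m_9 j u) (Nat.ble (nat_lit 15) j)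
noncomputable def dp_m_11 (j u : ℕ) : Bool :=
  Bool.rec (motive := fun _ => Bool) (lF [T_m, T_ni, T_mi, T_mi, T_d, T_pi, T_qi, T_di] M (Nat.sub (T_m u) (Nat.mod (T_m u) M)) (Nat.mod (T_m u) M) u) (lF [T_m, T_n, T_mi, T_mi, T_d, T_q, T_p, T_di] M (Nat.sub (T_m u) (Nat.mod (T_m u) M)) (Nat.mod (T_m u) M) u) (Nat.ble (nat_lit 18) j)
noncomputable def dp_m_12 (j u : ℕ) : Bool :=
  Bool.rec (motive := fun _ => Bool) (lS MG [T_m, T_ni, T_mi, T_mi, T_d, T_pi, T_qi, T_di] M (Nat.sub (T_m u) (Nat.mod (T_m u) M)) (nat_lit 40) (Nat.mod (T_m u) M) u) (lS MG [T_m, T_m, T_n, T_mi, T_d, T_pi, T_q, T_di] M (Nat.sub (T_m u) (Nat.mod (T_m u) M)) (nat_lit 40) (Nat.mod (T_m u) M) u) (Nat.ble (nat_lit 21) j)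
noncomputable def dp_m_13 (j u : ℕ) : Bool :=
  Bool.rec (motive := fun _ => Bool) (lF [T_m, T_m, T_d, T_q, T_pi, T_di, T_mi, T_n] M (Nat.sub (T_m u) (Nat.mod (T_m u) M)) (Nat.mod (T_m u) M) u) (dp_m_12 j u) (Nat.ble (nat_lit 20) j)
noncomputable def dp_m_14 (j u : ℕ) : Bool :=
  Bool.rec (motive := fun _ => Bool) (dp_m_11 j u) (dp_m_13 j u) (Nat.ble (nat_lit 19) j)
noncomputable def dp_m_15 (j u : ℕ) : Bool :=
  Bool.rec (motive := fun _ => Bool) (dp_m_10 j u) (dp_m_14 j u) (Nat.ble (nat_lit 17) j)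
noncomputable def dp_m_16 (j u : ℕ) : Bool :=
  Bool.rec (motive := fun _ => Bool) (lF [T_m, T_n, T_mi, T_d, T_pi, T_q, T_di, T_m] M (Nat.sub (T_m u) (Nat.mod (T_m u) M)) (Nat.mod (T_m u) M) u) (lS MG [T_p, T_q, T_p, T_m, T_qi, T_pi, T_qi] M (Nat.sub (T_m u) (Nat.mod (T_m u) M)) (nat_lit 40) (Nat.mod (T_m u) M) u) (Nat.ble (nat_lit 24) j)
noncomputable def dp_m_17 (j u : ℕ) : Bool :=
  Bool.rec (motive := fun _ => Bool) (lF [T_n, T_mi, T_d, T_pi, T_q, T_di, T_m, T_m] M (Nat.sub (T_m u) (Nat.mod (T_m u) M)) (Nat.mod (T_m u) M) u) (dp_m_16 j u) (Nat.ble (nat_lit 23) j)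
noncomputable def dp_m_18 (j u : ℕ) : Bool :=
  Bool.rec (motive := fun _ => Bool) (lS MG [T_d, T_p, T_qi, T_di, T_mi, T_mi, T_mi, T_ni] M (Nat.sub (T_m u) (Nat.mod (T_m u) M)) (nat_lit 40) (Nat.mod (T_m u) M) u) (lS MG [T_qi, T_pi, T_qi, T_m, T_p, T_q, T_p] M (Nat.sub (T_m u) (Nat.mod (T_m u) M)) (nat_lit 40) (Nat.mod (T_m u) M) u) (Nat.ble (nat_lit 27) j)
noncomputable def dp_m_19 (j u : ℕ) : Bool :=
  Bool.rec (motive := fun _ => Bool) (lF [T_ni, T_mi, T_mi, T_d, T_pi, T_qi, T_di, T_m] M (Nat.sub (T_m u) (Nat.mod (T_m u) M)) (Nat.mod (T_m u) M) u) (dp_m_18 j u) (Nat.ble (nat_lit 26) j)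
noncomputable def dp_m_20 (j u : ℕ) : Bool :=
  Bool.rec (motive := fun _ => Bool) (dp_m_17 j u) (dp_m_19 j u) (Nat.ble (nat_lit 25) j)
noncomputable def dp_m_21 (j u : ℕ) : Bool :=
  Bool.rec (motive := fun _ => Bool) (lH [] [] M (Nat.sub (T_m u) (Nat.mod (T_m u) M)) (Nat.mod (T_m u) M) u) (lF [T_ni, T_mi, T_di, T_m, T_n, T_mi, T_n, T_d, T_ni] M (Nat.sub (T_m u) (Nat.mod (T_m u) M)) (Nat.mod (T_m u) M) u) (Nat.ble (nat_lit 31) j)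
noncomputable def dp_m_22 (j u : ℕ) : Bool :=
  Bool.rec (motive := fun _ => Bool) (lF [T_m, T_d, T_q, T_pi, T_di, T_mi, T_n, T_m] M (Nat.sub (T_m u) (Nat.mod (T_m u) M)) (Nat.mod (T_m u) M) u) (dp_m_21 j u) (Nat.ble (nat_lit 30) j)
noncomputable def dp_m_23 (j u : ℕ) : Bool :=
  Bool.rec (motive := fun _ => Bool) (lS MG [T_m, T_n, T_mi, T_mi, T_d, T_q, T_p, T_di] M (Nat.sub (T_m u) (Nat.mod (T_m u) M)) (nat_lit 40) (Nat.mod (T_m u) M) u) (dp_m_22 j u) (Nat.ble (nat_lit 29) j)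
noncomputable def dp_m_24 (j u : ℕ) : Bool :=
  Bool.rec (motive := fun _ => Bool) (lS MG [T_ni, T_mi, T_mi, T_d, T_pi, T_qi, T_di, T_m] M (Nat.sub (T_m u) (Nat.mod (T_m u) M)) (nat_lit 40) (Nat.mod (T_m u) M) u) (lS MG [T_m, T_m, T_d, T_q, T_pi, T_di, T_mi, T_n] M (Nat.sub (T_m u) (Nat.mod (T_m u) M)) (nat_lit 40) (Nat.mod (T_m u) M) u) (Nat.ble (nat_lit 34) j)
noncomputable def dp_m_25 (j u : ℕ) : Bool :=
  Bool.rec (motive := fun _ => Bool) (lS MG [T_n, T_mi, T_n, T_di, T_ni, T_m, T_ni, T_mi, T_d] M (Nat.sub (T_m u) (Nat.mod (T_m u) M)) (nat_lit 40) (Nat.mod (T_m u) M) u) (dp_m_24 j u) (Nat.ble (nat_lit 33) j)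
noncomputable def dp_m_26 (j u : ℕ) : Bool :=
  Bool.rec (motive := fun _ => Bool) (lS MG [T_n, T_mi, T_mi, T_d, T_q, T_p, T_di, T_m] M (Nat.sub (T_m u) (Nat.mod (T_m u) M)) (nat_lit 40) (Nat.mod (T_m u) M) u) (lS MG [T_m, T_d, T_q, T_pi, T_di, T_mi, T_n, T_m] M (Nat.sub (T_m u) (Nat.mod (T_m u) M)) (nat_lit 40) (Nat.mod (T_m u) M) u) (Nat.ble (nat_lit 37) j)
noncomputable def dp_m_27 (j u : ℕ) : Bool :=
  Bool.rec (motive := fun _ => Bool) (lF [T_d, T_p, T_qi, T_di, T_mi, T_mi, T_mi, T_ni] M (Nat.sub (T_m u) (Nat.mod (T_m u) M)) (Nat.mod (T_m u) M) u) (dp_m_26 j u) (Nat.ble (nat_lit 36) j)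
noncomputable def dp_m_28 (j u : ℕ) : Bool :=
  Bool.rec (motive := fun _ => Bool) (dp_m_25 j u) (dp_m_27 j u) (Nat.ble (nat_lit 35) j)
noncomputable def dp_m_29 (j u : ℕ) : Bool :=
  Bool.rec (motive := fun _ => Bool) (dp_m_23 j u) (dp_m_28 j u) (Nat.ble (nat_lit 32) j)
noncomputable def dp_m_30 (j u : ℕ) : Bool :=
  Bool.rec (motive := fun _ => Bool) (dp_m_20 j u) (dp_m_29 j u) (Nat.ble (nat_lit 28) j)
noncomputable def dp_m_31 (j u : ℕ) : Bool :=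
  Bool.rec (motive := fun _ => Bool) (dp_m_15 j u) (dp_m_30 j u) (Nat.ble (nat_lit 22) j)
noncomputable def dp_m_32 (j u : ℕ) : Bool :=
  Bool.rec (motive := fun _ => Bool) (dp_m_7 j u) (dp_m_31 j u) (Nat.ble (nat_lit 13) j)
noncomputable def disp_m (j u : ℕ) : Bool :=
  Bool.rec (motive := fun _ => Bool) (Bool.rec (motive := fun _ => Bool) (lDef P (nat_lit 0) (Nat.mod (T_m u) M) u) (lDef P (nat_lit 1) u (Nat.mod (T_m u) M)) (Nat.ble (nat_lit 1) j)) (Bool.rec (motive := fun _ => Bool) (Bool.rec (motive := fun _ => Bool) (lF1 T_mi M (Nat.sub (T_m u) (Nat.mod (T_m u) M)) (Nat.mod (T_m u) M) u) (lS MG [T_mi] M (Nat.sub (T_m u) (Nat.mod (T_m u) M)) (nat_lit 40) (Nat.mod (T_m u) M) u) (Nat.ble (nat_lit 3) j)) (dp_m_32 j u) (Nat.ble (nat_lit 4) j)) (Nat.ble (nat_lit 2) j)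
noncomputable def chk_m (j u : ℕ) : Bool :=
  Bool.rec (motive := fun _ => Bool) (disp_m j u) (Nat.ble (Nat.succ (MG u)) A) (Nat.ble A (T_m u))
noncomputable def dp_mi_0 (j u : ℕ) : Bool :=
  Bool.rec (motive := fun _ => Bool) (lS MG [T_q, T_p, T_q, T_mi, T_q, T_p, T_q] M (Nat.sub (T_mi u) (Nat.mod (T_mi u) M)) (nat_lit 40) (Nat.mod (T_mi u) M) u) (lF [T_d, T_pi, T_q, T_di, T_m, T_m, T_m, T_n] M (Nat.sub (T_mi u) (Nat.mod (T_mi u) M)) (Nat.mod (T_mi u) M) u) (Nat.ble (nat_lit 6) j)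
noncomputable def dp_mi_1 (j u : ℕ) : Bool :=
  Bool.rec (motive := fun _ => Bool) (lF [T_q, T_p, T_q, T_mi, T_q, T_p, T_q] M (Nat.sub (T_mi u) (Nat.mod (T_mi u) M)) (Nat.mod (T_mi u) M) u) (dp_mi_0 j u) (Nat.ble (nat_lit 5) j)
noncomputable def dp_mi_2 (j u : ℕ) : Bool :=
  Bool.rec (motive := fun _ => Bool) (lS MG [T_n, T_d, T_p, T_q, T_pi, T_pi, T_qi, T_pi, T_di] M (Nat.sub (T_mi u) (Nat.mod (T_mi u) M)) (nat_lit 40) (Nat.mod (T_mi u) M) u) (lS MG [T_n, T_m, T_m, T_m, T_d, T_q, T_pi, T_di] M (Nat.sub (T_mi u) (Nat.mod (T_mi u) M)) (nat_lit 40) (Nat.mod (T_mi u) M) u) (Nat.ble (nat_lit 8) j)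
noncomputable def dp_mi_3 (j u : ℕ) : Bool :=
  Bool.rec (motive := fun _ => Bool) (lS MG [T_d, T_q, T_p, T_di, T_m, T_m, T_n, T_mi] M (Nat.sub (T_mi u) (Nat.mod (T_mi u) M)) (nat_lit 40) (Nat.mod (T_mi u) M) u) (lS MG [T_mi, T_d, T_q, T_p, T_di, T_m, T_m, T_n] M (Nat.sub (T_mi u) (Nat.mod (T_mi u) M)) (nat_lit 40) (Nat.mod (T_mi u) M) u) (Nat.ble (nat_lit 11) j)
noncomputable def dp_mi_4 (j u : ℕ) : Bool :=
  Bool.rec (motive := fun _ => Bool) (lF [T_q, T_p, T_q, T_mi, T_pi, T_qi, T_pi] M (Nat.sub (T_mi u) (Nat.mod (T_mi u) M)) (Nat.mod (T_mi u) M) u) (dp_mi_3 j u) (Nat.ble (nat_lit 10) j)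
noncomputable def dp_mi_5 (j u : ℕ) : Bool :=
  Bool.rec (motive := fun _ => Bool) (dp_mi_2 j u) (dp_mi_4 j u) (Nat.ble (nat_lit 9) j)
noncomputable def dp_mi_6 (j u : ℕ) : Bool :=
  Bool.rec (motive := fun _ => Bool) (dp_mi_1 j u) (dp_mi_5 j u) (Nat.ble (nat_lit 7) j)
noncomputable def dp_mi_7 (j u : ℕ) : Bool :=
  Bool.rec (motive := fun _ => Bool) (lS MG [T_q, T_p, T_q, T_mi, T_pi, T_qi, T_pi] M (Nat.sub (T_mi u) (Nat.mod (T_mi u) M)) (nat_lit 40) (Nat.mod (T_mi u) M) u) (lS MG [T_mi, T_ni, T_m, T_d, T_p, T_qi, T_di, T_mi] M (Nat.sub (T_mi u) (Nat.mod (T_mi u) M)) (nat_lit 40) (Nat.mod (T_mi u) M) u) (Nat.ble (nat_lit 13) j)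
noncomputable def dp_mi_8 (j u : ℕ) : Bool :=
  Bool.rec (motive := fun _ => Bool) (lS MG [T_n, T_di, T_ni, T_m, T_ni, T_mi, T_d, T_m, T_n] M (Nat.sub (T_mi u) (Nat.mod (T_mi u) M)) (nat_lit 40) (Nat.mod (T_mi u) M) u) (lF [T_mi, T_mi, T_ni, T_m, T_d, T_p, T_qi, T_di] M (Nat.sub (T_mi u) (Nat.mod (T_mi u) M)) (Nat.mod (T_mi u) M) u) (Nat.ble (nat_lit 15) j)
noncomputable def dp_mi_9 (j u : ℕ) : Bool :=
  Bool.rec (motive := fun _ => Bool) (dp_mi_7 j u) (dp_mi_8 j u) (Nat.ble (nat_lit 14) j)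
noncomputable def dp_mi_10 (j u : ℕ) : Bool :=
  Bool.rec (motive := fun _ => Bool) (lS MG [T_d, T_qi, T_p, T_di, T_m, T_ni, T_mi, T_mi] M (Nat.sub (T_mi u) (Nat.mod (T_mi u) M)) (nat_lit 40) (Nat.mod (T_mi u) M) u) (lF [T_n, T_d, T_ni, T_m, T_ni, T_mi, T_di, T_m, T_n] M (Nat.sub (T_mi u) (Nat.mod (T_mi u) M)) (Nat.mod (T_mi u) M) u) (Nat.ble (nat_lit 17) j)
noncomputable def dp_mi_11 (j u : ℕ) : Bool :=
  Bool.rec (motive := fun _ => Bool) (lS MG [T_d, T_pi, T_q, T_di, T_m, T_m, T_m, T_n] M (Nat.sub (T_mi u) (Nat.mod (T_mi u) M)) (nat_lit 40) (Nat.mod (T_mi u) M) u) (lF [T_n, T_m, T_m, T_m, T_d, T_q, T_pi, T_di] M (Nat.sub (T_mi u) (Nat.mod (T_mi u) M)) (Nat.mod (T_mi u) M) u) (Nat.ble (nat_lit 19) j)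
noncomputable def dp_mi_12 (j u : ℕ) : Bool :=
  Bool.rec (motive := fun _ => Bool) (dp_mi_10 j u) (dp_mi_11 j u) (Nat.ble (nat_lit 18) j)
noncomputable def dp_mi_13 (j u : ℕ) : Bool :=
  Bool.rec (motive := fun _ => Bool) (dp_mi_9 j u) (dp_mi_12 j u) (Nat.ble (nat_lit 16) j)
noncomputable def dp_mi_14 (j u : ℕ) : Bool :=
  Bool.rec (motive := fun _ => Bool) (lS MG [T_ni, T_m, T_d, T_p, T_qi, T_di, T_mi, T_mi] M (Nat.sub (T_mi u) (Nat.mod (T_mi u) M)) (nat_lit 40) (Nat.mod (T_mi u) M) u) (lF [T_mi, T_mi, T_d, T_qi, T_p, T_di, T_m, T_ni] M (Nat.sub (T_mi u) (Nat.mod (T_mi u) M)) (Nat.mod (T_mi u) M) u) (Nat.ble (nat_lit 21) j)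
noncomputable def dp_mi_15 (j u : ℕ) : Bool :=
  Bool.rec (motive := fun _ => Bool) (lF [T_pi, T_qi, T_pi, T_mi, T_q, T_p, T_q] M (Nat.sub (T_mi u) (Nat.mod (T_mi u) M)) (Nat.mod (T_mi u) M) u) (lF [T_n, T_di, T_ni, T_m, T_ni, T_mi, T_d, T_m, T_n] M (Nat.sub (T_mi u) (Nat.mod (T_mi u) M)) (Nat.mod (T_mi u) M) u) (Nat.ble (nat_lit 24) j)
noncomputable def dp_mi_16 (j u : ℕ) : Bool :=
  Bool.rec (motive := fun _ => Bool) (lS MG [T_mi, T_mi, T_d, T_qi, T_p, T_di, T_m, T_ni] M (Nat.sub (T_mi u) (Nat.mod (T_mi u) M)) (nat_lit 40) (Nat.mod (T_mi u) M) u) (dp_mi_15 j u) (Nat.ble (nat_lit 23) j)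
noncomputable def dp_mi_17 (j u : ℕ) : Bool :=
  Bool.rec (motive := fun _ => Bool) (dp_mi_14 j u) (dp_mi_16 j u) (Nat.ble (nat_lit 22) j)
noncomputable def dp_mi_18 (j u : ℕ) : Bool :=
  Bool.rec (motive := fun _ => Bool) (lS MG [T_mi, T_d, T_pi, T_qi, T_di, T_m, T_m, T_ni] M (Nat.sub (T_mi u) (Nat.mod (T_mi u) M)) (nat_lit 40) (Nat.mod (T_mi u) M) u) (lS MG [T_mi, T_mi, T_ni, T_m, T_d, T_p, T_qi, T_di] M (Nat.sub (T_mi u) (Nat.mod (T_mi u) M)) (nat_lit 40) (Nat.mod (T_mi u) M) u) (Nat.ble (nat_lit 28) j)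
noncomputable def dp_mi_19 (j u : ℕ) : Bool :=
  Bool.rec (motive := fun _ => Bool) (lF [T_mi, T_d, T_q, T_p, T_di, T_m, T_m, T_n] M (Nat.sub (T_mi u) (Nat.mod (T_mi u) M)) (Nat.mod (T_mi u) M) u) (dp_mi_18 j u) (Nat.ble (nat_lit 27) j)
noncomputable def dp_mi_20 (j u : ℕ) : Bool :=
  Bool.rec (motive := fun _ => Bool) (lF [T_n, T_d, T_p, T_q, T_pi, T_pi, T_qi, T_pi, T_di] M (Nat.sub (T_mi u) (Nat.mod (T_mi u) M)) (Nat.mod (T_mi u) M) u) (dp_mi_19 j u) (Nat.ble (nat_lit 26) j)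
noncomputable def dp_mi_21 (j u : ℕ) : Bool :=
  Bool.rec (motive := fun _ => Bool) (lF [T_ni, T_m, T_d, T_p, T_qi, T_di, T_mi, T_mi] M (Nat.sub (T_mi u) (Nat.mod (T_mi u) M)) (Nat.mod (T_mi u) M) u) (lS MG [T_pi, T_qi, T_pi, T_mi, T_q, T_p, T_q] M (Nat.sub (T_mi u) (Nat.mod (T_mi u) M)) (nat_lit 40) (Nat.mod (T_mi u) M) u) (Nat.ble (nat_lit 31) j)
noncomputable def dp_mi_22 (j u : ℕ) : Bool :=
  Bool.rec (motive := fun _ => Bool) (lS MG [T_di, T_m, T_n, T_mi, T_n, T_d, T_ni, T_m, T_ni] M (Nat.sub (T_mi u) (Nat.mod (T_mi u) M)) (nat_lit 40) (Nat.mod (T_mi u) M) u) (dp_mi_21 j u) (Nat.ble (nat_lit 30) j)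
noncomputable def dp_mi_23 (j u : ℕ) : Bool :=
  Bool.rec (motive := fun _ => Bool) (lF [T_d, T_m, T_n, T_mi, T_n, T_di, T_ni, T_m, T_ni] M (Nat.sub (T_mi u) (Nat.mod (T_mi u) M)) (Nat.mod (T_mi u) M) u) (lF [T_d, T_qi, T_p, T_di, T_m, T_ni, T_mi, T_mi] M (Nat.sub (T_mi u) (Nat.mod (T_mi u) M)) (Nat.mod (T_mi u) M) u) (Nat.ble (nat_lit 33) j)
noncomputable def dp_mi_24 (j u : ℕ) : Bool :=
  Bool.rec (motive := fun _ => Bool) (lF [T_mi, T_d, T_qi, T_p, T_di, T_m, T_ni, T_mi] M (Nat.sub (T_mi u) (Nat.mod (T_mi u) M)) (Nat.mod (T_mi u) M) u) (lS MG [T_mi, T_d, T_qi, T_p, T_di, T_m, T_ni, T_mi] M (Nat.sub (T_mi u) (Nat.mod (T_mi u) M)) (nat_lit 40) (Nat.mod (T_mi u) M) u) (Nat.ble (nat_lit 35) j)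
noncomputable def dp_mi_25 (j u : ℕ) : Bool :=
  Bool.rec (motive := fun _ => Bool) (dp_mi_23 j u) (dp_mi_24 j u) (Nat.ble (nat_lit 34) j)
noncomputable def dp_mi_26 (j u : ℕ) : Bool :=
  Bool.rec (motive := fun _ => Bool) (dp_mi_22 j u) (dp_mi_25 j u) (Nat.ble (nat_lit 32) j)
noncomputable def dp_mi_27 (j u : ℕ) : Bool :=
  Bool.rec (motive := fun _ => Bool) (dp_mi_20 j u) (dp_mi_26 j u) (Nat.ble (nat_lit 29) j)
noncomputable def dp_mi_28 (j u : ℕ) : Bool :=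
  Bool.rec (motive := fun _ => Bool) (dp_mi_17 j u) (dp_mi_27 j u) (Nat.ble (nat_lit 25) j)
noncomputable def dp_mi_29 (j u : ℕ) : Bool :=
  Bool.rec (motive := fun _ => Bool) (dp_mi_13 j u) (dp_mi_28 j u) (Nat.ble (nat_lit 20) j)
noncomputable def dp_mi_30 (j u : ℕ) : Bool :=
  Bool.rec (motive := fun _ => Bool) (dp_mi_6 j u) (dp_mi_29 j u) (Nat.ble (nat_lit 12) j)
noncomputable def disp_mi (j u : ℕ) : Bool :=
  Bool.rec (motive := fun _ => Bool) (Bool.rec (motive := fun _ => Bool) (lDef P (nat_lit 0) u (Nat.mod (T_mi u) M)) (lF1 T_m M (Nat.sub (T_mi u) (Nat.mod (T_mi u) M)) (Nat.mod (T_mi u) M) u) (Nat.ble (nat_lit 1) j)) (Bool.rec (motive := fun _ => Bool) (Bool.rec (motive := fun _ => Bool) (lDef P (nat_lit 1) (Nat.mod (T_mi u) M) u) (lS MG [T_m] M (Nat.sub (T_mi u) (Nat.mod (T_mi u) M)) (nat_lit 40) (Nat.mod (T_mi u) M) u) (Nat.ble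 (nat_lit 3) j)) (dp_mi_30 j u) (Nat.ble (nat_lit 4) j)) (Nat.ble (nat_lit 2) j)
noncomputable def chk_mi (j u : ℕ) : Bool :=
  Bool.rec (motive := fun _ => Bool) (disp_mi j u) (Nat.ble (Nat.succ (MG u)) A) (Nat.ble A (T_mi u))
noncomputable def dp_n_0 (j u : ℕ) : Bool :=
  Bool.rec (motive := fun _ => Bool) (lS MG [T_mi, T_n, T_di, T_ni, T_m, T_ni, T_mi, T_d, T_m] M (Nat.sub (T_n u) (Nat.mod (T_n u) M)) (nat_lit 40) (Nat.mod (T_n u) M) u) (lF [T_pi, T_ni, T_q, T_n, T_pi, T_ni, T_q] M (Nat.sub (T_n u) (Nat.mod (T_n u) M)) (Nat.mod (T_n u) M) u) (Nat.ble (nat_lit 7) j)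
noncomputable def dp_n_1 (j u : ℕ) : Bool :=
  Bool.rec (motive := fun _ => Bool) (lF [T_mi, T_d, T_pi, T_q, T_di, T_m, T_m, T_m] M (Nat.sub (T_n u) (Nat.mod (T_n u) M)) (Nat.mod (T_n u) M) u) (dp_n_0 j u) (Nat.ble (nat_lit 6) j)
noncomputable def dp_n_2 (j u : ℕ) : Bool :=
  Bool.rec (motive := fun _ => Bool) (lS MG [T_pi, T_pi, T_n, T_qi, T_p, T_ni, T_p] M (Nat.sub (T_n u) (Nat.mod (T_n u) M)) (nat_lit 40) (Nat.mod (T_n u) M) u) (lF [T_m, T_m, T_m, T_d, T_q, T_pi, T_di, T_mi] M (Nat.sub (T_n u) (Nat.mod (T_n u) M)) (Nat.mod (T_n u) M) u) (Nat.ble (nat_lit 9) j)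
noncomputable def dp_n_3 (j u : ℕ) : Bool :=
  Bool.rec (motive := fun _ => Bool) (lS MG [T_m, T_m, T_m, T_d, T_q, T_pi, T_di, T_mi] M (Nat.sub (T_n u) (Nat.mod (T_n u) M)) (nat_lit 40) (Nat.mod (T_n u) M) u) (lS MG [T_p, T_ni, T_qi, T_n, T_p, T_ni, T_qi] M (Nat.sub (T_n u) (Nat.mod (T_n u) M)) (nat_lit 40) (Nat.mod (T_n u) M) u) (Nat.ble (nat_lit 12) j)
noncomputable def dp_n_4 (j u : ℕ) : Bool :=
  Bool.rec (motive := fun _ => Bool) (lS MG [T_qi, T_p, T_ni, T_p, T_n, T_pi, T_pi] M (Nat.sub (T_n u) (Nat.mod (T_n u) M)) (nat_lit 40) (Nat.mod (T_n u) M) u) (dp_n_3 j u) (Nat.ble (nat_lit 11) j)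
noncomputable def dp_n_5 (j u : ℕ) : Bool :=
  Bool.rec (motive := fun _ => Bool) (dp_n_2 j u) (dp_n_4 j u) (Nat.ble (nat_lit 10) j)
noncomputable def dp_n_6 (j u : ℕ) : Bool :=
  Bool.rec (motive := fun _ => Bool) (dp_n_1 j u) (dp_n_5 j u) (Nat.ble (nat_lit 8) j)
noncomputable def dp_n_7 (j u : ℕ) : Bool :=
  Bool.rec (motive := fun _ => Bool) (lF [T_p, T_ni, T_qi, T_n, T_p, T_ni, T_qi] M (Nat.sub (T_n u) (Nat.mod (T_n u) M)) (Nat.mod (T_n u) M) u) (lF [T_pi, T_pi, T_n, T_qi, T_p, T_ni, T_p] M (Nat.sub (T_n u) (Nat.mod (T_n u) M)) (Nat.mod (T_n u) M) u) (Nat.ble (nat_lit 15) j)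
noncomputable def dp_n_8 (j u : ℕ) : Bool :=
  Bool.rec (motive := fun _ => Bool) (lF [T_mi, T_n, T_di, T_ni, T_m, T_ni, T_mi, T_d, T_m] M (Nat.sub (T_n u) (Nat.mod (T_n u) M)) (Nat.mod (T_n u) M) u) (dp_n_7 j u) (Nat.ble (nat_lit 14) j)
noncomputable def dp_n_9 (j u : ℕ) : Bool :=
  Bool.rec (motive := fun _ => Bool) (lF [T_pi, T_q, T_ni, T_p, T_p, T_ni, T_pi] M (Nat.sub (T_n u) (Nat.mod (T_n u) M)) (Nat.mod (T_n u) M) u) (lS MG [T_qi, T_p, T_n, T_pi, T_q, T_ni, T_q] M (Nat.sub (T_n u) (Nat.mod (T_n u) M)) (nat_lit 40) (Nat.mod (T_n u) M) u) (Nat.ble (nat_lit 17) j)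
noncomputable def dp_n_10 (j u : ℕ) : Bool :=
  Bool.rec (motive := fun _ => Bool) (lS MG [T_pi, T_q, T_ni, T_p, T_p, T_ni, T_pi] M (Nat.sub (T_n u) (Nat.mod (T_n u) M)) (nat_lit 40) (Nat.mod (T_n u) M) u) (lF [T_pi, T_q, T_ni, T_q, T_n, T_qi, T_p] M (Nat.sub (T_n u) (Nat.mod (T_n u) M)) (Nat.mod (T_n u) M) u) (Nat.ble (nat_lit 19) j)
noncomputable def dp_n_11 (j u : ℕ) : Bool :=
  Bool.rec (motive := fun _ => Bool) (dp_n_9 j u) (dp_n_10 j u) (Nat.ble (nat_lit 18) j)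
noncomputable def dp_n_12 (j u : ℕ) : Bool :=
  Bool.rec (motive := fun _ => Bool) (dp_n_8 j u) (dp_n_11 j u) (Nat.ble (nat_lit 16) j)
noncomputable def dp_n_13 (j u : ℕ) : Bool :=
  Bool.rec (motive := fun _ => Bool) (lS MG [T_pi, T_ni, T_q, T_n, T_pi, T_ni, T_q] M (Nat.sub (T_n u) (Nat.mod (T_n u) M)) (nat_lit 40) (Nat.mod (T_n u) M) u) (lF [T_qi, T_p, T_n, T_pi, T_q, T_ni, T_q] M (Nat.sub (T_n u) (Nat.mod (T_n u) M)) (Nat.mod (T_n u) M) u) (Nat.ble (nat_lit 21) j)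
noncomputable def dp_n_14 (j u : ℕ) : Bool :=
  Bool.rec (motive := fun _ => Bool) (lF [T_d, T_p, T_q, T_pi, T_pi, T_qi, T_pi, T_di, T_mi] M (Nat.sub (T_n u) (Nat.mod (T_n u) M)) (Nat.mod (T_n u) M) u) (lS MG [T_mi, T_d, T_pi, T_q, T_di, T_m, T_m, T_m] M (Nat.sub (T_n u) (Nat.mod (T_n u) M)) (nat_lit 40) (Nat.mod (T_n u) M) u) (Nat.ble (nat_lit 23) j)
noncomputable def dp_n_15 (j u : ℕ) : Bool :=
  Bool.rec (motive := fun _ => Bool) (dp_n_13 j u) (dp_n_14 j u) (Nat.ble (nat_lit 22) j)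
noncomputable def dp_n_16 (j u : ℕ) : Bool :=
  Bool.rec (motive := fun _ => Bool) (lF [T_pi, T_pi, T_q, T_n, T_pi, T_pi, T_q] M (Nat.sub (T_n u) (Nat.mod (T_n u) M)) (Nat.mod (T_n u) M) u) (lH [] [] M (Nat.sub (T_n u) (Nat.mod (T_n u) M)) (Nat.mod (T_n u) M) u) (Nat.ble (nat_lit 25) j)
noncomputable def dp_n_17 (j u : ℕ) : Bool :=
  Bool.rec (motive := fun _ => Bool) (lS MG [T_qi, T_p, T_ni, T_pi, T_q, T_ni, T_qi] M (Nat.sub (T_n u) (Nat.mod (T_n u) M)) (nat_lit 40) (Nat.mod (T_n u) M) u) (lS MG [T_mi, T_mi, T_d, T_q, T_p, T_di, T_m, T_m] M (Nat.sub (T_n u) (Nat.mod (T_n u) M)) (nat_lit 40) (Nat.mod (T_n u) M) u) (Nat.ble (nat_lit 28) j)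
noncomputable def dp_n_18 (j u : ℕ) : Bool :=
  Bool.rec (motive := fun _ => Bool) (lS MG [T_n, T_n] M (Nat.sub (T_n u) (Nat.mod (T_n u) M)) (nat_lit 40) (Nat.mod (T_n u) M) u) (dp_n_17 j u) (Nat.ble (nat_lit 27) j)
noncomputable def dp_n_19 (j u : ℕ) : Bool :=
  Bool.rec (motive := fun _ => Bool) (dp_n_16 j u) (dp_n_18 j u) (Nat.ble (nat_lit 26) j)
noncomputable def dp_n_20 (j u : ℕ) : Bool :=
  Bool.rec (motive := fun _ => Bool) (lS MG [T_qi, T_p, T_di, T_pi, T_q, T_ni, T_pi, T_di, T_p] M (Nat.sub (T_n u) (Nat.mod (T_n u) M)) (nat_lit 40) (Nat.mod (T_n u) M) u) (lF [T_mi, T_mi, T_d, T_q, T_p, T_di, T_m, T_m] M (Nat.sub (T_n u) (Nat.mod (T_n u) M)) (Nat.mod (T_n u) M) u) (Nat.ble (nat_lit 31) j)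
noncomputable def dp_n_21 (j u : ℕ) : Bool :=
  Bool.rec (motive := fun _ => Bool) (lS MG [T_pi, T_pi, T_q, T_n, T_pi, T_pi, T_q] M (Nat.sub (T_n u) (Nat.mod (T_n u) M)) (nat_lit 40) (Nat.mod (T_n u) M) u) (dp_n_20 j u) (Nat.ble (nat_lit 30) j)
noncomputable def dp_n_22 (j u : ℕ) : Bool :=
  Bool.rec (motive := fun _ => Bool) (lF [T_qi, T_p, T_ni, T_p, T_n, T_pi, T_pi] M (Nat.sub (T_n u) (Nat.mod (T_n u) M)) (Nat.mod (T_n u) M) u) (lF [T_qi, T_p, T_ni, T_pi, T_q, T_ni, T_qi] M (Nat.sub (T_n u) (Nat.mod (T_n u) M)) (Nat.mod (T_n u) M) u) (Nat.ble (nat_lit 33) j)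
noncomputable def dp_n_23 (j u : ℕ) : Bool :=
  Bool.rec (motive := fun _ => Bool) (lF [T_qi, T_p, T_di, T_pi, T_q, T_ni, T_pi, T_di, T_p] M (Nat.sub (T_n u) (Nat.mod (T_n u) M)) (Nat.mod (T_n u) M) u) (lF [T_qi, T_p, T_d, T_pi, T_q, T_ni, T_pi, T_d, T_p] M (Nat.sub (T_n u) (Nat.mod (T_n u) M)) (Nat.mod (T_n u) M) u) (Nat.ble (nat_lit 35) j)
noncomputable def dp_n_24 (j u : ℕ) : Bool :=
  Bool.rec (motive := fun _ => Bool) (dp_n_22 j u) (dp_n_23 j u) (Nat.ble (nat_lit 34) j)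
noncomputable def dp_n_25 (j u : ℕ) : Bool :=
  Bool.rec (motive := fun _ => Bool) (dp_n_21 j u) (dp_n_24 j u) (Nat.ble (nat_lit 32) j)
noncomputable def dp_n_26 (j u : ℕ) : Bool :=
  Bool.rec (motive := fun _ => Bool) (dp_n_19 j u) (dp_n_25 j u) (Nat.ble (nat_lit 29) j)
noncomputable def dp_n_27 (j u : ℕ) : Bool :=
  Bool.rec (motive := fun _ => Bool) (dp_n_15 j u) (dp_n_26 j u) (Nat.ble (nat_lit 24) j)
noncomputable def dp_n_28 (j u : ℕ) : Bool :=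
  Bool.rec (motive := fun _ => Bool) (dp_n_12 j u) (dp_n_27 j u) (Nat.ble (nat_lit 20) j)
noncomputable def dp_n_29 (j u : ℕ) : Bool :=
  Bool.rec (motive := fun _ => Bool) (dp_n_6 j u) (dp_n_28 j u) (Nat.ble (nat_lit 13) j)
noncomputable def dp_n_30 (j u : ℕ) : Bool :=
  Bool.rec (motive := fun _ => Bool) (Bool.rec (motive := fun _ => Bool) (lDef P (nat_lit 3) u (Nat.mod (T_n u) M)) (lS MG [T_ni] M (Nat.sub (T_n u) (Nat.mod (T_n u) M)) (nat_lit 40) (Nat.mod (T_n u) M) u) (Nat.ble (nat_lit 4) j)) (dp_n_29 j u) (Nat.ble (nat_lit 5) j)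
noncomputable def disp_n (j u : ℕ) : Bool :=
  Bool.rec (motive := fun _ => Bool) (Bool.rec (motive := fun _ => Bool) (lF1 T_ni M (Nat.sub (T_n u) (Nat.mod (T_n u) M)) (Nat.mod (T_n u) M) u) (Bool.rec (motive := fun _ => Bool) (lF [T_n, T_n] M (Nat.sub (T_n u) (Nat.mod (T_n u) M)) (Nat.mod (T_n u) M) u) (lDef P (nat_lit 2) (Nat.mod (T_n u) M) u) (Nat.ble (nat_lit 2) j)) (Nat.ble (nat_lit 1) j)) (dp_n_30 j u) (Nat.ble (nat_lit 3) j)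
noncomputable def chk_n (j u : ℕ) : Bool :=
  Bool.rec (motive := fun _ => Bool) (disp_n j u) (Nat.ble (Nat.succ (MG u)) A) (Nat.ble A (T_n u))
noncomputable def dp_ni_0 (j u : ℕ) : Bool :=
  Bool.rec (motive := fun _ => Bool) (lS MG [T_pi, T_n, T_pi, T_q, T_ni, T_p, T_p] M (Nat.sub (T_ni u) (Nat.mod (T_ni u) M)) (nat_lit 40) (Nat.mod (T_ni u) M) u) (lF [T_m, T_d, T_p, T_qi, T_di, T_mi, T_mi, T_mi] M (Nat.sub (T_ni u) (Nat.mod (T_ni u) M)) (Nat.mod (T_ni u) M) u) (Nat.ble (nat_lit 6) j)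
noncomputable def dp_ni_1 (j u : ℕ) : Bool :=
  Bool.rec (motive := fun _ => Bool) (lS MG [T_q, T_n, T_pi, T_ni, T_q, T_n, T_pi] M (Nat.sub (T_ni u) (Nat.mod (T_ni u) M)) (nat_lit 40) (Nat.mod (T_ni u) M) u) (lF [T_mi, T_mi, T_mi, T_d, T_qi, T_p, T_di, T_m] M (Nat.sub (T_ni u) (Nat.mod (T_ni u) M)) (Nat.mod (T_ni u) M) u) (Nat.ble (nat_lit 8) j)
noncomputable def dp_ni_2 (j u : ℕ) : Bool :=
  Bool.rec (motive := fun _ => Bool) (dp_ni_0 j u) (dp_ni_1 j u) (Nat.ble (nat_lit 7) j)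
noncomputable def dp_ni_3 (j u : ℕ) : Bool :=
  Bool.rec (motive := fun _ => Bool) (lS MG [T_mi, T_di, T_m, T_n, T_mi, T_n, T_d, T_ni, T_m] M (Nat.sub (T_ni u) (Nat.mod (T_ni u) M)) (nat_lit 40) (Nat.mod (T_ni u) M) u) (lF [T_q, T_n, T_qi, T_p, T_n, T_pi, T_q] M (Nat.sub (T_ni u) (Nat.mod (T_ni u) M)) (Nat.mod (T_ni u) M) u) (Nat.ble (nat_lit 11) j)
noncomputable def dp_ni_4 (j u : ℕ) : Bool :=
  Bool.rec (motive := fun _ => Bool) (lS MG [T_p, T_n, T_pi, T_pi, T_n, T_qi, T_p] M (Nat.sub (T_ni u) (Nat.mod (T_ni u) M)) (nat_lit 40) (Nat.mod (T_ni u) M) u) (dp_ni_3 j u) (Nat.ble (nat_lit 10) j)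
noncomputable def dp_ni_5 (j u : ℕ) : Bool :=
  Bool.rec (motive := fun _ => Bool) (lF [T_qi, T_n, T_qi, T_p, T_ni, T_pi, T_q] M (Nat.sub (T_ni u) (Nat.mod (T_ni u) M)) (Nat.mod (T_ni u) M) u) (lS MG [T_m, T_d, T_p, T_qi, T_di, T_mi, T_mi, T_mi] M (Nat.sub (T_ni u) (Nat.mod (T_ni u) M)) (nat_lit 40) (Nat.mod (T_ni u) M) u) (Nat.ble (nat_lit 13) j)
noncomputable def dp_ni_6 (j u : ℕ) : Bool :=
  Bool.rec (motive := fun _ => Bool) (lF [T_p, T_n, T_pi, T_pi, T_n, T_qi, T_p] M (Nat.sub (T_ni u) (Nat.mod (T_ni u) M)) (Nat.mod (T_ni u) M) u) (lF [T_qi, T_p, T_p, T_ni, T_qi, T_p, T_p] M (Nat.sub (T_ni u) (Nat.mod (T_ni u) M)) (Nat.mod (T_ni u) M) u) (Nat.ble (nat_lit 16) j)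
noncomputable def dp_ni_7 (j u : ℕ) : Bool :=
  Bool.rec (motive := fun _ => Bool) (lS MG [T_ni, T_ni] M (Nat.sub (T_ni u) (Nat.mod (T_ni u) M)) (nat_lit 40) (Nat.mod (T_ni u) M) u) (dp_ni_6 j u) (Nat.ble (nat_lit 15) j)
noncomputable def dp_ni_8 (j u : ℕ) : Bool :=
  Bool.rec (motive := fun _ => Bool) (dp_ni_5 j u) (dp_ni_7 j u) (Nat.ble (nat_lit 14) j)
noncomputable def dp_ni_9 (j u : ℕ) : Bool :=
  Bool.rec (motive := fun _ => Bool) (dp_ni_4 j u) (dp_ni_8 j u) (Nat.ble (nat_lit 12) j)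
noncomputable def dp_ni_10 (j u : ℕ) : Bool :=
  Bool.rec (motive := fun _ => Bool) (lS MG [T_mi, T_mi, T_mi, T_d, T_qi, T_p, T_di, T_m] M (Nat.sub (T_ni u) (Nat.mod (T_ni u) M)) (nat_lit 40) (Nat.mod (T_ni u) M) u) (lS MG [T_m, T_d, T_p, T_q, T_p, T_p, T_qi, T_pi, T_di] M (Nat.sub (T_ni u) (Nat.mod (T_ni u) M)) (nat_lit 40) (Nat.mod (T_ni u) M) u) (Nat.ble (nat_lit 19) j)
noncomputable def dp_ni_11 (j u : ℕ) : Bool :=
  Bool.rec (motive := fun _ => Bool) (lS MG [T_pi, T_d, T_p, T_n, T_qi, T_p, T_d, T_pi, T_q] M (Nat.sub (T_ni u) (Nat.mod (T_ni u) M)) (nat_lit 40) (Nat.mod (T_ni u) M) u) (dp_ni_10 j u) (Nat.ble (nat_lit 18) j)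
noncomputable def dp_ni_12 (j u : ℕ) : Bool :=
  Bool.rec (motive := fun _ => Bool) (lS MG [T_qi, T_n, T_qi, T_p, T_ni, T_pi, T_q] M (Nat.sub (T_ni u) (Nat.mod (T_ni u) M)) (nat_lit 40) (Nat.mod (T_ni u) M) u) (lS MG [T_pi, T_di, T_p, T_n, T_qi, T_p, T_di, T_pi, T_q] M (Nat.sub (T_ni u) (Nat.mod (T_ni u) M)) (nat_lit 40) (Nat.mod (T_ni u) M) u) (Nat.ble (nat_lit 22) j)
noncomputable def dp_ni_13 (j u : ℕ) : Bool :=
  Bool.rec (motive := fun _ => Bool) (lS MG [T_p, T_p, T_ni, T_pi, T_n, T_pi, T_q] M (Nat.sub (T_ni u) (Nat.mod (T_ni u) M)) (nat_lit 40) (Nat.mod (T_ni u) M) u) (dp_ni_12 j u) (Nat.ble (nat_lit 21) j)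
noncomputable def dp_ni_14 (j u : ℕ) : Bool :=
  Bool.rec (motive := fun _ => Bool) (dp_ni_11 j u) (dp_ni_13 j u) (Nat.ble (nat_lit 20) j)
noncomputable def dp_ni_15 (j u : ℕ) : Bool :=
  Bool.rec (motive := fun _ => Bool) (lS MG [T_qi, T_n, T_p, T_ni, T_qi, T_n, T_p] M (Nat.sub (T_ni u) (Nat.mod (T_ni u) M)) (nat_lit 40) (Nat.mod (T_ni u) M) u) (lF [T_qi, T_n, T_p, T_ni, T_qi, T_n, T_p] M (Nat.sub (T_ni u) (Nat.mod (T_ni u) M)) (Nat.mod (T_ni u) M) u) (Nat.ble (nat_lit 25) j)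
noncomputable def dp_ni_16 (j u : ℕ) : Bool :=
  Bool.rec (motive := fun _ => Bool) (lF [T_q, T_n, T_pi, T_ni, T_q, T_n, T_pi] M (Nat.sub (T_ni u) (Nat.mod (T_ni u) M)) (Nat.mod (T_ni u) M) u) (dp_ni_15 j u) (Nat.ble (nat_lit 24) j)
noncomputable def dp_ni_17 (j u : ℕ) : Bool :=
  Bool.rec (motive := fun _ => Bool) (lF [T_mi, T_di, T_m, T_n, T_mi, T_n, T_d, T_ni, T_m] M (Nat.sub (T_ni u) (Nat.mod (T_ni u) M)) (Nat.mod (T_ni u) M) u) (lS MG [T_q, T_n, T_qi, T_p, T_n, T_pi, T_q] M (Nat.sub (T_ni u) (Nat.mod (T_ni u) M)) (nat_lit 40) (Nat.mod (T_ni u) M) u) (Nat.ble (nat_lit 28) j)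
noncomputable def dp_ni_18 (j u : ℕ) : Bool :=
  Bool.rec (motive := fun _ => Bool) (lF [T_m, T_d, T_p, T_q, T_p, T_p, T_qi, T_pi, T_di] M (Nat.sub (T_ni u) (Nat.mod (T_ni u) M)) (Nat.mod (T_ni u) M) u) (dp_ni_17 j u) (Nat.ble (nat_lit 27) j)
noncomputable def dp_ni_19 (j u : ℕ) : Bool :=
  Bool.rec (motive := fun _ => Bool) (lF [T_p, T_p, T_ni, T_pi, T_n, T_pi, T_q] M (Nat.sub (T_ni u) (Nat.mod (T_ni u) M)) (Nat.mod (T_ni u) M) u) (lF [T_pi, T_d, T_p, T_n, T_qi, T_p, T_d, T_pi, T_q] M (Nat.sub (T_ni u) (Nat.mod (T_ni u) M)) (Nat.mod (T_ni u) M) u) (Nat.ble (nat_lit 30) j)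
noncomputable def dp_ni_20 (j u : ℕ) : Bool :=
  Bool.rec (motive := fun _ => Bool) (lS MG [T_m, T_ni, T_mi, T_d, T_m, T_n, T_mi, T_n, T_di] M (Nat.sub (T_ni u) (Nat.mod (T_ni u) M)) (nat_lit 40) (Nat.mod (T_ni u) M) u) (lF [T_mi, T_mi, T_d, T_pi, T_qi, T_di, T_m, T_m] M (Nat.sub (T_ni u) (Nat.mod (T_ni u) M)) (Nat.mod (T_ni u) M) u) (Nat.ble (nat_lit 32) j)
noncomputable def dp_ni_21 (j u : ℕ) : Bool :=
  Bool.rec (motive := fun _ => Bool) (dp_ni_19 j u) (dp_ni_20 j u) (Nat.ble (nat_lit 31) j)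
noncomputable def dp_ni_22 (j u : ℕ) : Bool :=
  Bool.rec (motive := fun _ => Bool) (dp_ni_18 j u) (dp_ni_21 j u) (Nat.ble (nat_lit 29) j)
noncomputable def dp_ni_23 (j u : ℕ) : Bool :=
  Bool.rec (motive := fun _ => Bool) (dp_ni_16 j u) (dp_ni_22 j u) (Nat.ble (nat_lit 26) j)
noncomputable def dp_ni_24 (j u : ℕ) : Bool :=
  Bool.rec (motive := fun _ => Bool) (dp_ni_14 j u) (dp_ni_23 j u) (Nat.ble (nat_lit 23) j)
noncomputable def dp_ni_25 (j u : ℕ) : Bool :=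
  Bool.rec (motive := fun _ => Bool) (dp_ni_9 j u) (dp_ni_24 j u) (Nat.ble (nat_lit 17) j)
noncomputable def dp_ni_26 (j u : ℕ) : Bool :=
  Bool.rec (motive := fun _ => Bool) (Bool.rec (motive := fun _ => Bool) (lF [T_ni, T_ni] M (Nat.sub (T_ni u) (Nat.mod (T_ni u) M)) (Nat.mod (T_ni u) M) u) (dp_ni_2 j u) (Nat.ble (nat_lit 5) j)) (dp_ni_25 j u) (Nat.ble (nat_lit 9) j)
noncomputable def disp_ni (j u : ℕ) : Bool :=
  Bool.rec (motive := fun _ => Bool) (Bool.rec (motive := fun _ => Bool) (lF1 T_n M (Nat.sub (T_ni u) (Nat.mod (T_ni u) M)) (Nat.mod (T_ni u) M) u) (lDef P (nat_lit 2) u (Nat.mod (T_ni u) M)) (Nat.ble (nat_lit 1) j)) (Bool.rec (motive := fun _ => Bool) (Bool.rec (motive := fun _ => Bool) (lDef P (nat_lit 3) (Nat.mod (T_ni u) M) u) (lS MG [T_n] M (Nat.sub (T_ni u) (Nat.mod (T_ni u) M)) (nat_lit 40) (Nat.mod (T_ni u) M) u) (Nat.ble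 (nat_lit 3) j)) (dp_ni_26 j u) (Nat.ble (nat_lit 4) j)) (Nat.ble (nat_lit 2) j)
noncomputable def chk_ni (j u : ℕ) : Bool :=
  Bool.rec (motive := fun _ => Bool) (disp_ni j u) (Nat.ble (Nat.succ (MG u)) A) (Nat.ble A (T_ni u))
noncomputable def dp_p_0 (j u : ℕ) : Bool :=
  Bool.rec (motive := fun _ => Bool) (lF [T_q, T_pi, T_q, T_p, T_q, T_pi, T_q] M (Nat.sub (T_p u) (Nat.mod (T_p u) M)) (Nat.mod (T_p u) M) u) (lF [T_qi, T_pi, T_qi, T_p, T_qi, T_pi, T_qi] M (Nat.sub (T_p u) (Nat.mod (T_p u) M)) (Nat.mod (T_p u) M) u) (Nat.ble (nat_lit 6) j)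
noncomputable def dp_p_1 (j u : ℕ) : Bool :=
  Bool.rec (motive := fun _ => Bool) (lF [T_n, T_pi, T_pi, T_n, T_qi, T_p, T_ni] M (Nat.sub (T_p u) (Nat.mod (T_p u) M)) (Nat.mod (T_p u) M) u) (dp_p_0 j u) (Nat.ble (nat_lit 5) j)
noncomputable def dp_p_2 (j u : ℕ) : Bool :=
  Bool.rec (motive := fun _ => Bool) (lF [T_p, T_ni, T_pi, T_n, T_pi, T_q, T_ni] M (Nat.sub (T_p u) (Nat.mod (T_p u) M)) (Nat.mod (T_p u) M) u) (lS MG [T_di, T_m, T_m, T_n, T_mi, T_mi, T_d, T_q] M (Nat.sub (T_p u) (Nat.mod (T_p u) M)) (nat_lit 40) (Nat.mod (T_p u) M) u) (Nat.ble (nat_lit 8) j)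
noncomputable def dp_p_3 (j u : ℕ) : Bool :=
  Bool.rec (motive := fun _ => Bool) (lS MG [T_n, T_pi, T_pi, T_n, T_qi, T_p, T_ni] M (Nat.sub (T_p u) (Nat.mod (T_p u) M)) (nat_lit 40) (Nat.mod (T_p u) M) u) (lS MG [T_ni, T_qi, T_n, T_p, T_ni, T_qi, T_n] M (Nat.sub (T_p u) (Nat.mod (T_p u) M)) (nat_lit 40) (Nat.mod (T_p u) M) u) (Nat.ble (nat_lit 11) j)
noncomputable def dp_p_4 (j u : ℕ) : Bool :=
  Bool.rec (motive := fun _ => Bool) (lF [T_ni, T_pi, T_n, T_pi, T_q, T_ni, T_p] M (Nat.sub (T_p u) (Nat.mod (T_p u) M)) (Nat.mod (T_p u) M) u) (dp_p_3 j u) (Nat.ble (nat_lit 10) j)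
noncomputable def dp_p_5 (j u : ℕ) : Bool :=
  Bool.rec (motive := fun _ => Bool) (dp_p_2 j u) (dp_p_4 j u) (Nat.ble (nat_lit 9) j)
noncomputable def dp_p_6 (j u : ℕ) : Bool :=
  Bool.rec (motive := fun _ => Bool) (lS MG [T_p, T_ni, T_qi, T_p, T_p, T_ni, T_qi] M (Nat.sub (T_p u) (Nat.mod (T_p u) M)) (nat_lit 40) (Nat.mod (T_p u) M) u) (lF [T_m, T_qi, T_pi, T_qi, T_m, T_p, T_q] M (Nat.sub (T_p u) (Nat.mod (T_p u) M)) (Nat.mod (T_p u) M) u) (Nat.ble (nat_lit 14) j)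
noncomputable def dp_p_7 (j u : ℕ) : Bool :=
  Bool.rec (motive := fun _ => Bool) (lF [T_ni, T_qi, T_n, T_p, T_ni, T_qi, T_n] M (Nat.sub (T_p u) (Nat.mod (T_p u) M)) (Nat.mod (T_p u) M) u) (dp_p_6 j u) (Nat.ble (nat_lit 13) j)
noncomputable def dp_p_8 (j u : ℕ) : Bool :=
  Bool.rec (motive := fun _ => Bool) (lF [T_p, T_ni, T_qi, T_p, T_p, T_ni, T_qi] M (Nat.sub (T_p u) (Nat.mod (T_p u) M)) (Nat.mod (T_p u) M) u) (lS MG [T_di, T_m, T_ni, T_mi, T_mi, T_mi, T_d, T_qi] M (Nat.sub (T_p u) (Nat.mod (T_p u) M)) (nat_lit 40) (Nat.mod (T_p u) M) u) (Nat.ble (nat_lit 16) j)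
noncomputable def dp_p_9 (j u : ℕ) : Bool :=
  Bool.rec (motive := fun _ => Bool) (lF [T_q, T_p, T_m, T_qi, T_pi, T_qi, T_m] M (Nat.sub (T_p u) (Nat.mod (T_p u) M)) (Nat.mod (T_p u) M) u) (lF [T_ni, T_p, T_n, T_pi, T_pi, T_n, T_qi] M (Nat.sub (T_p u) (Nat.mod (T_p u) M)) (Nat.mod (T_p u) M) u) (Nat.ble (nat_lit 18) j)
noncomputable def dp_p_10 (j u : ℕ) : Bool :=
  Bool.rec (motive := fun _ => Bool) (dp_p_8 j u) (dp_p_9 j u) (Nat.ble (nat_lit 17) j)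
noncomputable def dp_p_11 (j u : ℕ) : Bool :=
  Bool.rec (motive := fun _ => Bool) (dp_p_7 j u) (dp_p_10 j u) (Nat.ble (nat_lit 15) j)
noncomputable def dp_p_12 (j u : ℕ) : Bool :=
  Bool.rec (motive := fun _ => Bool) (lF [T_qi, T_di, T_mi, T_mi, T_mi, T_ni, T_m, T_d] M (Nat.sub (T_p u) (Nat.mod (T_p u) M)) (Nat.mod (T_p u) M) u) (lS MG [T_q, T_p, T_m, T_qi, T_pi, T_qi, T_m] M (Nat.sub (T_p u) (Nat.mod (T_p u) M)) (nat_lit 40) (Nat.mod (T_p u) M) u) (Nat.ble (nat_lit 20) j)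
noncomputable def dp_p_13 (j u : ℕ) : Bool :=
  Bool.rec (motive := fun _ => Bool) (lF [T_di, T_m, T_ni, T_mi, T_mi, T_mi, T_d, T_qi] M (Nat.sub (T_p u) (Nat.mod (T_p u) M)) (Nat.mod (T_p u) M) u) (lS MG [T_m, T_qi, T_pi, T_qi, T_m, T_p, T_q] M (Nat.sub (T_p u) (Nat.mod (T_p u) M)) (nat_lit 40) (Nat.mod (T_p u) M) u) (Nat.ble (nat_lit 22) j)
noncomputable def dp_p_14 (j u : ℕ) : Bool :=
  Bool.rec (motive := fun _ => Bool) (lS MG [T_q, T_mi, T_q, T_p, T_q, T_mi, T_q] M (Nat.sub (T_p u) (Nat.mod (T_p u) M)) (nat_lit 40) (Nat.mod (T_p u) M) u) (lS MG [T_ni, T_pi, T_n, T_pi, T_q, T_ni, T_p] M (Nat.sub (T_p u) (Nat.mod (T_p u) M)) (nat_lit 40) (Nat.mod (T_p u) M) u) (Nat.ble (nat_lit 24) j)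
noncomputable def dp_p_15 (j u : ℕ) : Bool :=
  Bool.rec (motive := fun _ => Bool) (dp_p_13 j u) (dp_p_14 j u) (Nat.ble (nat_lit 23) j)
noncomputable def dp_p_16 (j u : ℕ) : Bool :=
  Bool.rec (motive := fun _ => Bool) (dp_p_12 j u) (dp_p_15 j u) (Nat.ble (nat_lit 21) j)
noncomputable def dp_p_17 (j u : ℕ) : Bool :=
  Bool.rec (motive := fun _ => Bool) (lF [T_n, T_qi, T_p, T_di, T_pi, T_q, T_ni, T_pi, T_di] M (Nat.sub (T_p u) (Nat.mod (T_p u) M)) (Nat.mod (T_p u) M) u) (lH [] [] M (Nat.sub (T_p u) (Nat.mod (T_p u) M)) (Nat.mod (T_p u) M) u) (Nat.ble (nat_lit 26) j)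
noncomputable def dp_p_18 (j u : ℕ) : Bool :=
  Bool.rec (motive := fun _ => Bool) (lS MG [T_n, T_qi, T_p, T_di, T_pi, T_q, T_ni, T_pi, T_di] M (Nat.sub (T_p u) (Nat.mod (T_p u) M)) (nat_lit 40) (Nat.mod (T_p u) M) u) (lF [T_n, T_qi, T_p, T_d, T_pi, T_q, T_ni, T_pi, T_d] M (Nat.sub (T_p u) (Nat.mod (T_p u) M)) (Nat.mod (T_p u) M) u) (Nat.ble (nat_lit 28) j)
noncomputable def dp_p_19 (j u : ℕ) : Bool :=
  Bool.rec (motive := fun _ => Bool) (lF [T_ni, T_qi, T_p, T_p, T_ni, T_qi, T_p] M (Nat.sub (T_p u) (Nat.mod (T_p u) M)) (Nat.mod (T_p u) M) u) (lS MG [T_qi, T_pi, T_qi, T_p, T_qi, T_pi, T_qi] M (Nat.sub (T_p u) (Nat.mod (T_p u) M)) (nat_lit 40) (Nat.mod (T_p u) M) u) (Nat.ble (nat_lit 30) j)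
noncomputable def dp_p_20 (j u : ℕ) : Bool :=
  Bool.rec (motive := fun _ => Bool) (dp_p_18 j u) (dp_p_19 j u) (Nat.ble (nat_lit 29) j)
noncomputable def dp_p_21 (j u : ℕ) : Bool :=
  Bool.rec (motive := fun _ => Bool) (dp_p_17 j u) (dp_p_20 j u) (Nat.ble (nat_lit 27) j)
noncomputable def dp_p_22 (j u : ℕ) : Bool :=
  Bool.rec (motive := fun _ => Bool) (lS MG [T_n, T_qi, T_p, T_d, T_pi, T_q, T_ni, T_pi, T_d] M (Nat.sub (T_p u) (Nat.mod (T_p u) M)) (nat_lit 40) (Nat.mod (T_p u) M) u) (lS MG [T_qi, T_di, T_mi, T_mi, T_mi, T_ni, T_m, T_d] M (Nat.sub (T_p u) (Nat.mod (T_p u) M)) (nat_lit 40) (Nat.mod (T_p u) M) u) (Nat.ble (nat_lit 32) j)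
noncomputable def dp_p_23 (j u : ℕ) : Bool :=
  Bool.rec (motive := fun _ => Bool) (lS MG [T_p, T_qi, T_pi, T_di, T_ni, T_m, T_d, T_p, T_q] M (Nat.sub (T_p u) (Nat.mod (T_p u) M)) (nat_lit 40) (Nat.mod (T_p u) M) u) (lS MG [T_q, T_pi, T_q, T_p, T_q, T_pi, T_q] M (Nat.sub (T_p u) (Nat.mod (T_p u) M)) (nat_lit 40) (Nat.mod (T_p u) M) u) (Nat.ble (nat_lit 34) j)
noncomputable def dp_p_24 (j u : ℕ) : Bool :=
  Bool.rec (motive := fun _ => Bool) (dp_p_22 j u) (dp_p_23 j u) (Nat.ble (nat_lit 33) j)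
noncomputable def dp_p_25 (j u : ℕ) : Bool :=
  Bool.rec (motive := fun _ => Bool) (lS MG [T_p, T_ni, T_pi, T_n, T_pi, T_q, T_ni] M (Nat.sub (T_p u) (Nat.mod (T_p u) M)) (nat_lit 40) (Nat.mod (T_p u) M) u) (lS MG [T_ni, T_p, T_n, T_pi, T_pi, T_n, T_qi] M (Nat.sub (T_p u) (Nat.mod (T_p u) M)) (nat_lit 40) (Nat.mod (T_p u) M) u) (Nat.ble (nat_lit 36) j)
noncomputable def dp_p_26 (j u : ℕ) : Bool :=
  Bool.rec (motive := fun _ => Bool) (lS MG [T_ni, T_pi, T_q, T_ni, T_qi, T_n, T_qi] M (Nat.sub (T_p u) (Nat.mod (T_p u) M)) (nat_lit 40) (Nat.mod (T_p u) M) u) (lF [T_q, T_mi, T_pi, T_qi, T_pi, T_mi, T_q] M (Nat.sub (T_p u) (Nat.mod (T_p u) M)) (Nat.mod (T_p u) M) u) (Nat.ble (nat_lit 38) j)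
noncomputable def dp_p_27 (j u : ℕ) : Bool :=
  Bool.rec (motive := fun _ => Bool) (dp_p_25 j u) (dp_p_26 j u) (Nat.ble (nat_lit 37) j)
noncomputable def dp_p_28 (j u : ℕ) : Bool :=
  Bool.rec (motive := fun _ => Bool) (dp_p_24 j u) (dp_p_27 j u) (Nat.ble (nat_lit 35) j)
noncomputable def dp_p_29 (j u : ℕ) : Bool :=
  Bool.rec (motive := fun _ => Bool) (dp_p_21 j u) (dp_p_28 j u) (Nat.ble (nat_lit 31) j)
noncomputable def dp_p_30 (j u : ℕ) : Bool :=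
  Bool.rec (motive := fun _ => Bool) (dp_p_16 j u) (dp_p_29 j u) (Nat.ble (nat_lit 25) j)
noncomputable def dp_p_31 (j u : ℕ) : Bool :=
  Bool.rec (motive := fun _ => Bool) (dp_p_11 j u) (dp_p_30 j u) (Nat.ble (nat_lit 19) j)
noncomputable def dp_p_32 (j u : ℕ) : Bool :=
  Bool.rec (motive := fun _ => Bool) (Bool.rec (motive := fun _ => Bool) (dp_p_1 j u) (dp_p_5 j u) (Nat.ble (nat_lit 7) j)) (dp_p_31 j u) (Nat.ble (nat_lit 12) j)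
noncomputable def disp_p (j u : ℕ) : Bool :=
  Bool.rec (motive := fun _ => Bool) (Bool.rec (motive := fun _ => Bool) (lF1 T_pi M (Nat.sub (T_p u) (Nat.mod (T_p u) M)) (Nat.mod (T_p u) M) u) (lDef P (nat_lit 4) (Nat.mod (T_p u) M) u) (Nat.ble (nat_lit 1) j)) (Bool.rec (motive := fun _ => Bool) (Bool.rec (motive := fun _ => Bool) (lDef P (nat_lit 5) u (Nat.mod (T_p u) M)) (lS MG [T_pi] M (Nat.sub (T_p u) (Nat.mod (T_p u) M)) (nat_lit 40) (Nat.mod (T_p u) M) u) (Nat.ble (nat_lit 3) j)) (dp_p_32 j u) (Nat.ble (nat_lit 4) j)) (Nat.ble (nat_lit 2) j)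
noncomputable def chk_p (j u : ℕ) : Bool :=
  Bool.rec (motive := fun _ => Bool) (disp_p j u) (Nat.ble (Nat.succ (MG u)) A) (Nat.ble A (T_p u))
noncomputable def dp_pi_0 (j u : ℕ) : Bool :=
  Bool.rec (motive := fun _ => Bool) (lF [T_n, T_pi, T_q, T_ni, T_p, T_p, T_ni] M (Nat.sub (T_pi u) (Nat.mod (T_pi u) M)) (Nat.mod (T_pi u) M) u) (lF [T_q, T_p, T_q, T_pi, T_q, T_p, T_q] M (Nat.sub (T_pi u) (Nat.mod (T_pi u) M)) (Nat.mod (T_pi u) M) u) (Nat.ble (nat_lit 6) j)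
noncomputable def dp_pi_1 (j u : ℕ) : Bool :=
  Bool.rec (motive := fun _ => Bool) (lS MG [T_ni, T_q, T_n, T_pi, T_ni, T_q, T_n] M (Nat.sub (T_pi u) (Nat.mod (T_pi u) M)) (nat_lit 40) (Nat.mod (T_pi u) M) u) (lF [T_qi, T_p, T_qi, T_pi, T_qi, T_p, T_qi] M (Nat.sub (T_pi u) (Nat.mod (T_pi u) M)) (Nat.mod (T_pi u) M) u) (Nat.ble (nat_lit 8) j)
noncomputable def dp_pi_2 (j u : ℕ) : Bool :=
  Bool.rec (motive := fun _ => Bool) (dp_pi_0 j u) (dp_pi_1 j u) (Nat.ble (nat_lit 7) j)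
noncomputable def dp_pi_3 (j u : ℕ) : Bool :=
  Bool.rec (motive := fun _ => Bool) (lS MG [T_di, T_mi, T_n, T_m, T_m, T_m, T_d, T_q] M (Nat.sub (T_pi u) (Nat.mod (T_pi u) M)) (nat_lit 40) (Nat.mod (T_pi u) M) u) (lF [T_qi, T_pi, T_mi, T_q, T_p, T_q, T_mi] M (Nat.sub (T_pi u) (Nat.mod (T_pi u) M)) (Nat.mod (T_pi u) M) u) (Nat.ble (nat_lit 10) j)
noncomputable def dp_pi_4 (j u : ℕ) : Bool :=
  Bool.rec (motive := fun _ => Bool) (lF [T_ni, T_q, T_n, T_pi, T_ni, T_q, T_n] M (Nat.sub (T_pi u) (Nat.mod (T_pi u) M)) (Nat.mod (T_pi u) M) u) (lF [T_q, T_n, T_pi, T_pi, T_q, T_n, T_pi] M (Nat.sub (T_pi u) (Nat.mod (T_pi u) M)) (Nat.mod (T_pi u) M) u) (Nat.ble (nat_lit 13) j)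
noncomputable def dp_pi_5 (j u : ℕ) : Bool :=
  Bool.rec (motive := fun _ => Bool) (lS MG [T_q, T_di, T_m, T_m, T_m, T_n, T_mi, T_d] M (Nat.sub (T_pi u) (Nat.mod (T_pi u) M)) (nat_lit 40) (Nat.mod (T_pi u) M) u) (dp_pi_4 j u) (Nat.ble (nat_lit 12) j)
noncomputable def dp_pi_6 (j u : ℕ) : Bool :=
  Bool.rec (motive := fun _ => Bool) (dp_pi_3 j u) (dp_pi_5 j u) (Nat.ble (nat_lit 11) j)
noncomputable def dp_pi_7 (j u : ℕ) : Bool :=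
  Bool.rec (motive := fun _ => Bool) (dp_pi_2 j u) (dp_pi_6 j u) (Nat.ble (nat_lit 9) j)
noncomputable def dp_pi_8 (j u : ℕ) : Bool :=
  Bool.rec (motive := fun _ => Bool) (lS MG [T_qi, T_di, T_m, T_m, T_ni, T_mi, T_mi, T_d] M (Nat.sub (T_pi u) (Nat.mod (T_pi u) M)) (nat_lit 40) (Nat.mod (T_pi u) M) u) (lF [T_di, T_mi, T_n, T_m, T_m, T_m, T_d, T_q] M (Nat.sub (T_pi u) (Nat.mod (T_pi u) M)) (Nat.mod (T_pi u) M) u) (Nat.ble (nat_lit 16) j)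
noncomputable def dp_pi_9 (j u : ℕ) : Bool :=
  Bool.rec (motive := fun _ => Bool) (lS MG [T_n, T_pi, T_q, T_ni, T_p, T_p, T_ni] M (Nat.sub (T_pi u) (Nat.mod (T_pi u) M)) (nat_lit 40) (Nat.mod (T_pi u) M) u) (dp_pi_8 j u) (Nat.ble (nat_lit 15) j)
noncomputable def dp_pi_10 (j u : ℕ) : Bool :=
  Bool.rec (motive := fun _ => Bool) (lS MG [T_qi, T_m, T_qi, T_pi, T_qi, T_m, T_qi] M (Nat.sub (T_pi u) (Nat.mod (T_pi u) M)) (nat_lit 40) (Nat.mod (T_pi u) M) u) (lS MG [T_n, T_qi, T_p, T_ni, T_p, T_n, T_pi] M (Nat.sub (T_pi u) (Nat.mod (T_pi u) M)) (nat_lit 40) (Nat.mod (T_pi u) M) u) (Nat.ble (nat_lit 18) j)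
noncomputable def dp_pi_11 (j u : ℕ) : Bool :=
  Bool.rec (motive := fun _ => Bool) (lF [T_n, T_qi, T_p, T_ni, T_p, T_n, T_pi] M (Nat.sub (T_pi u) (Nat.mod (T_pi u) M)) (Nat.mod (T_pi u) M) u) (lF [T_pi, T_q, T_n, T_pi, T_pi, T_q, T_n] M (Nat.sub (T_pi u) (Nat.mod (T_pi u) M)) (Nat.mod (T_pi u) M) u) (Nat.ble (nat_lit 20) j)
noncomputable def dp_pi_12 (j u : ℕ) : Bool :=
  Bool.rec (motive := fun _ => Bool) (dp_pi_10 j u) (dp_pi_11 j u) (Nat.ble (nat_lit 19) j)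
noncomputable def dp_pi_13 (j u : ℕ) : Bool :=
  Bool.rec (motive := fun _ => Bool) (dp_pi_9 j u) (dp_pi_12 j u) (Nat.ble (nat_lit 17) j)
noncomputable def dp_pi_14 (j u : ℕ) : Bool :=
  Bool.rec (motive := fun _ => Bool) (lS MG [T_pi, T_n, T_qi, T_p, T_ni, T_p, T_n] M (Nat.sub (T_pi u) (Nat.mod (T_pi u) M)) (nat_lit 40) (Nat.mod (T_pi u) M) u) (lS MG [T_q, T_n, T_pi, T_pi, T_q, T_n, T_pi] M (Nat.sub (T_pi u) (Nat.mod (T_pi u) M)) (nat_lit 40) (Nat.mod (T_pi u) M) u) (Nat.ble (nat_lit 23) j)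
noncomputable def dp_pi_15 (j u : ℕ) : Bool :=
  Bool.rec (motive := fun _ => Bool) (lF [T_qi, T_m, T_qi, T_pi, T_qi, T_m, T_qi] M (Nat.sub (T_pi u) (Nat.mod (T_pi u) M)) (Nat.mod (T_pi u) M) u) (dp_pi_14 j u) (Nat.ble (nat_lit 22) j)
noncomputable def dp_pi_16 (j u : ℕ) : Bool :=
  Bool.rec (motive := fun _ => Bool) (lS MG [T_q, T_p, T_q, T_pi, T_q, T_p, T_q] M (Nat.sub (T_pi u) (Nat.mod (T_pi u) M)) (nat_lit 40) (Nat.mod (T_pi u) M) u) (lS MG [T_qi, T_p, T_qi, T_pi, T_qi, T_p, T_qi] M (Nat.sub (T_pi u) (Nat.mod (T_pi u) M)) (nat_lit 40) (Nat.mod (T_pi u) M) u) (Nat.ble (nat_lit 25) j)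
noncomputable def dp_pi_17 (j u : ℕ) : Bool :=
  Bool.rec (motive := fun _ => Bool) (lF [T_q, T_di, T_m, T_m, T_m, T_n, T_mi, T_d] M (Nat.sub (T_pi u) (Nat.mod (T_pi u) M)) (Nat.mod (T_pi u) M) u) (lF [T_qi, T_di, T_m, T_m, T_ni, T_mi, T_mi, T_d] M (Nat.sub (T_pi u) (Nat.mod (T_pi u) M)) (Nat.mod (T_pi u) M) u) (Nat.ble (nat_lit 27) j)
noncomputable def dp_pi_18 (j u : ℕ) : Bool :=
  Bool.rec (motive := fun _ => Bool) (dp_pi_16 j u) (dp_pi_17 j u) (Nat.ble (nat_lit 26) j)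
noncomputable def dp_pi_19 (j u : ℕ) : Bool :=
  Bool.rec (motive := fun _ => Bool) (dp_pi_15 j u) (dp_pi_18 j u) (Nat.ble (nat_lit 24) j)
noncomputable def dp_pi_20 (j u : ℕ) : Bool :=
  Bool.rec (motive := fun _ => Bool) (lS MG [T_pi, T_q, T_n, T_pi, T_pi, T_q, T_n] M (Nat.sub (T_pi u) (Nat.mod (T_pi u) M)) (nat_lit 40) (Nat.mod (T_pi u) M) u) (lS MG [T_qi, T_pi, T_di, T_mi, T_n, T_d, T_p, T_q, T_pi] M (Nat.sub (T_pi u) (Nat.mod (T_pi u) M)) (nat_lit 40) (Nat.mod (T_pi u) M) u) (Nat.ble (nat_lit 30) j)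
noncomputable def dp_pi_21 (j u : ℕ) : Bool :=
  Bool.rec (motive := fun _ => Bool) (lF [T_d, T_p, T_n, T_qi, T_p, T_d, T_pi, T_q, T_ni] M (Nat.sub (T_pi u) (Nat.mod (T_pi u) M)) (Nat.mod (T_pi u) M) u) (dp_pi_20 j u) (Nat.ble (nat_lit 29) j)
noncomputable def dp_pi_22 (j u : ℕ) : Bool :=
  Bool.rec (motive := fun _ => Bool) (lS MG [T_qi, T_m, T_p, T_q, T_p, T_m, T_qi] M (Nat.sub (T_pi u) (Nat.mod (T_pi u) M)) (nat_lit 40) (Nat.mod (T_pi u) M) u) (lF [T_q, T_ni, T_pi, T_d, T_p, T_n, T_qi, T_p, T_d] M (Nat.sub (T_pi u) (Nat.mod (T_pi u) M)) (Nat.mod (T_pi u) M) u) (Nat.ble (nat_lit 32) j)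
noncomputable def dp_pi_23 (j u : ℕ) : Bool :=
  Bool.rec (motive := fun _ => Bool) (lS MG [T_q, T_ni, T_qi, T_n, T_qi, T_p, T_ni] M (Nat.sub (T_pi u) (Nat.mod (T_pi u) M)) (nat_lit 40) (Nat.mod (T_pi u) M) u) (lS MG [T_qi, T_pi, T_mi, T_q, T_p, T_q, T_mi] M (Nat.sub (T_pi u) (Nat.mod (T_pi u) M)) (nat_lit 40) (Nat.mod (T_pi u) M) u) (Nat.ble (nat_lit 34) j)
noncomputable def dp_pi_24 (j u : ℕ) : Bool :=
  Bool.rec (motive := fun _ => Bool) (dp_pi_22 j u) (dp_pi_23 j u) (Nat.ble (nat_lit 33) j)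
noncomputable def dp_pi_25 (j u : ℕ) : Bool :=
  Bool.rec (motive := fun _ => Bool) (dp_pi_21 j u) (dp_pi_24 j u) (Nat.ble (nat_lit 31) j)
noncomputable def dp_pi_26 (j u : ℕ) : Bool :=
  Bool.rec (motive := fun _ => Bool) (lF [T_di, T_mi, T_n, T_d, T_p, T_q, T_pi, T_pi, T_qi] M (Nat.sub (T_pi u) (Nat.mod (T_pi u) M)) (Nat.mod (T_pi u) M) u) (lF [T_q, T_ni, T_p, T_p, T_ni, T_pi, T_n] M (Nat.sub (T_pi u) (Nat.mod (T_pi u) M)) (Nat.mod (T_pi u) M) u) (Nat.ble (nat_lit 36) j)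
noncomputable def dp_pi_27 (j u : ℕ) : Bool :=
  Bool.rec (motive := fun _ => Bool) (lS MG [T_q, T_ni, T_pi, T_di, T_p, T_n, T_qi, T_p, T_di] M (Nat.sub (T_pi u) (Nat.mod (T_pi u) M)) (nat_lit 40) (Nat.mod (T_pi u) M) u) (lF [T_q, T_ni, T_qi, T_n, T_qi, T_p, T_ni] M (Nat.sub (T_pi u) (Nat.mod (T_pi u) M)) (Nat.mod (T_pi u) M) u) (Nat.ble (nat_lit 38) j)
noncomputable def dp_pi_28 (j u : ℕ) : Bool :=
  Bool.rec (motive := fun _ => Bool) (dp_pi_26 j u) (dp_pi_27 j u) (Nat.ble (nat_lit 37) j)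
noncomputable def dp_pi_29 (j u : ℕ) : Bool :=
  Bool.rec (motive := fun _ => Bool) (lS MG [T_q, T_ni, T_q, T_n, T_qi, T_p, T_n] M (Nat.sub (T_pi u) (Nat.mod (T_pi u) M)) (nat_lit 40) (Nat.mod (T_pi u) M) u) (lS MG [T_mi, T_q, T_p, T_q, T_mi, T_pi, T_qi] M (Nat.sub (T_pi u) (Nat.mod (T_pi u) M)) (nat_lit 40) (Nat.mod (T_pi u) M) u) (Nat.ble (nat_lit 40) j)
noncomputable def dp_pi_30 (j u : ℕ) : Bool :=
  Bool.rec (motive := fun _ => Bool) (lF [T_qi, T_m, T_p, T_q, T_p, T_m, T_qi] M (Nat.sub (T_pi u) (Nat.mod (T_pi u) M)) (Nat.mod (T_pi u) M) u) (lF [T_mi, T_q, T_p, T_q, T_mi, T_pi, T_qi] M (Nat.sub (T_pi u) (Nat.mod (T_pi u) M)) (Nat.mod (T_pi u) M) u) (Nat.ble (nat_lit 42) j)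
noncomputable def dp_pi_31 (j u : ℕ) : Bool :=
  Bool.rec (motive := fun _ => Bool) (dp_pi_29 j u) (dp_pi_30 j u) (Nat.ble (nat_lit 41) j)
noncomputable def dp_pi_32 (j u : ℕ) : Bool :=
  Bool.rec (motive := fun _ => Bool) (dp_pi_28 j u) (dp_pi_31 j u) (Nat.ble (nat_lit 39) j)
noncomputable def dp_pi_33 (j u : ℕ) : Bool :=
  Bool.rec (motive := fun _ => Bool) (dp_pi_25 j u) (dp_pi_32 j u) (Nat.ble (nat_lit 35) j)
noncomputable def dp_pi_34 (j u : ℕ) : Bool :=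
  Bool.rec (motive := fun _ => Bool) (dp_pi_19 j u) (dp_pi_33 j u) (Nat.ble (nat_lit 28) j)
noncomputable def dp_pi_35 (j u : ℕ) : Bool :=
  Bool.rec (motive := fun _ => Bool) (dp_pi_13 j u) (dp_pi_34 j u) (Nat.ble (nat_lit 21) j)
noncomputable def dp_pi_36 (j u : ℕ) : Bool :=
  Bool.rec (motive := fun _ => Bool) (dp_pi_7 j u) (dp_pi_35 j u) (Nat.ble (nat_lit 14) j)
noncomputable def disp_pi (j u : ℕ) : Bool :=
  Bool.rec (motive := fun _ => Bool) (Bool.rec (motive := fun _ => Bool) (lF1 T_p M (Nat.sub (T_pi u) (Nat.mod (T_pi u) M)) (Nat.mod (T_pi u) M) u) (lDef P (nat_lit 4) u (Nat.mod (T_pi u) M)) (Nat.ble (nat_lit 1) j)) (Bool.rec (motive := fun _ => Bool) (Bool.rec (motive := fun _ => Bool) (lDef P (nat_lit 5) (Nat.mod (T_pi u) M) u) (Bool.rec (motive := fun _ => Bool) (lS MG [T_p] M (Nat.sub (T_pi u) (Nat.mod (T_pi u) M)) (nat_lit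 40) (Nat.mod (T_pi u) M) u) (lF [T_pi, T_n, T_qi, T_p, T_ni, T_p, T_n] M (Nat.sub (T_pi u) (Nat.mod (T_pi u) M)) (Nat.mod (T_pi u) M) u) (Nat.ble (nat_lit 4) j)) (Nat.ble (nat_lit 3) j)) (dp_pi_36 j u) (Nat.ble (nat_lit 5) j)) (Nat.ble (nat_lit 2) j)
noncomputable def chk_pi (j u : ℕ) : Bool :=
  Bool.rec (motive := fun _ => Bool) (disp_pi j u) (Nat.ble (Nat.succ (MG u)) A) (Nat.ble A (T_pi u))
noncomputable def dp_q_0 (j u : ℕ) : Bool :=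
  Bool.rec (motive := fun _ => Bool) (lF [T_n, T_pi, T_pi, T_q, T_n, T_pi, T_pi] M (Nat.sub (T_q u) (Nat.mod (T_q u) M)) (Nat.mod (T_q u) M) u) (lF [T_p, T_q, T_mi, T_q, T_p, T_q, T_mi] M (Nat.sub (T_q u) (Nat.mod (T_q u) M)) (Nat.mod (T_q u) M) u) (Nat.ble (nat_lit 7) j)
noncomputable def dp_q_1 (j u : ℕ) : Bool :=
  Bool.rec (motive := fun _ => Bool) (lF [T_n, T_pi, T_ni, T_q, T_n, T_pi, T_ni] M (Nat.sub (T_q u) (Nat.mod (T_q u) M)) (Nat.mod (T_q u) M) u) (dp_q_0 j u) (Nat.ble (nat_lit 6) j)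
noncomputable def dp_q_2 (j u : ℕ) : Bool :=
  Bool.rec (motive := fun _ => Bool) (lS MG [T_di, T_pi, T_q, T_ni, T_q, T_n, T_qi, T_p, T_d] M (Nat.sub (T_q u) (Nat.mod (T_q u) M)) (nat_lit 40) (Nat.mod (T_q u) M) u) (lF [T_pi, T_q, T_p, T_q, T_pi, T_q, T_p] M (Nat.sub (T_q u) (Nat.mod (T_q u) M)) (Nat.mod (T_q u) M) u) (Nat.ble (nat_lit 9) j)
noncomputable def dp_q_3 (j u : ℕ) : Bool :=
  Bool.rec (motive := fun _ => Bool) (lS MG [T_mi, T_q, T_p, T_q, T_mi, T_q, T_p] M (Nat.sub (T_q u) (Nat.mod (T_q u) M)) (nat_lit 40) (Nat.mod (T_q u) M) u) (lF [T_n, T_qi, T_p, T_n, T_pi, T_q, T_ni] M (Nat.sub (T_q u) (Nat.mod (T_q u) M)) (Nat.mod (T_q u) M) u) (Nat.ble (nat_lit 12) j)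
noncomputable def dp_q_4 (j u : ℕ) : Bool :=
  Bool.rec (motive := fun _ => Bool) (lF [T_di, T_pi, T_q, T_ni, T_q, T_n, T_qi, T_p, T_d] M (Nat.sub (T_q u) (Nat.mod (T_q u) M)) (Nat.mod (T_q u) M) u) (dp_q_3 j u) (Nat.ble (nat_lit 11) j)
noncomputable def dp_q_5 (j u : ℕ) : Bool :=
  Bool.rec (motive := fun _ => Bool) (dp_q_2 j u) (dp_q_4 j u) (Nat.ble (nat_lit 10) j)
noncomputable def dp_q_6 (j u : ℕ) : Bool :=
  Bool.rec (motive := fun _ => Bool) (dp_q_1 j u) (dp_q_5 j u) (Nat.ble (nat_lit 8) j)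
noncomputable def dp_q_7 (j u : ℕ) : Bool :=
  Bool.rec (motive := fun _ => Bool) (lS MG [T_n, T_qi, T_p, T_n, T_pi, T_q, T_ni] M (Nat.sub (T_q u) (Nat.mod (T_q u) M)) (nat_lit 40) (Nat.mod (T_q u) M) u) (lS MG [T_di, T_m, T_m, T_m, T_n, T_mi, T_d, T_pi] M (Nat.sub (T_q u) (Nat.mod (T_q u) M)) (nat_lit 40) (Nat.mod (T_q u) M) u) (Nat.ble (nat_lit 15) j)
noncomputable def dp_q_8 (j u : ℕ) : Bool :=
  Bool.rec (motive := fun _ => Bool) (lS MG [T_n, T_pi, T_ni, T_q, T_n, T_pi, T_ni] M (Nat.sub (T_q u) (Nat.mod (T_q u) M)) (nat_lit 40) (Nat.mod (T_q u) M) u) (dp_q_7 j u) (Nat.ble (nat_lit 14) j)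
noncomputable def dp_q_9 (j u : ℕ) : Bool :=
  Bool.rec (motive := fun _ => Bool) (lF [T_ni, T_qi, T_n, T_qi, T_p, T_ni, T_pi] M (Nat.sub (T_q u) (Nat.mod (T_q u) M)) (Nat.mod (T_q u) M) u) (lS MG [T_pi, T_q, T_p, T_q, T_pi, T_q, T_p] M (Nat.sub (T_q u) (Nat.mod (T_q u) M)) (nat_lit 40) (Nat.mod (T_q u) M) u) (Nat.ble (nat_lit 17) j)
noncomputable def dp_q_10 (j u : ℕ) : Bool :=
  Bool.rec (motive := fun _ => Bool) (lS MG [T_n, T_pi, T_pi, T_q, T_n, T_pi, T_pi] M (Nat.sub (T_q u) (Nat.mod (T_q u) M)) (nat_lit 40) (Nat.mod (T_q u) M) u) (lF [T_p, T_q, T_pi, T_q, T_p, T_q, T_pi] M (Nat.sub (T_q u) (Nat.mod (T_q u) M)) (Nat.mod (T_q u) M) u) (Nat.ble (nat_lit 19) j)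
noncomputable def dp_q_11 (j u : ℕ) : Bool :=
  Bool.rec (motive := fun _ => Bool) (dp_q_9 j u) (dp_q_10 j u) (Nat.ble (nat_lit 18) j)
noncomputable def dp_q_12 (j u : ℕ) : Bool :=
  Bool.rec (motive := fun _ => Bool) (dp_q_8 j u) (dp_q_11 j u) (Nat.ble (nat_lit 16) j)
noncomputable def dp_q_13 (j u : ℕ) : Bool :=
  Bool.rec (motive := fun _ => Bool) (lS MG [T_ni, T_qi, T_n, T_qi, T_p, T_ni, T_pi] M (Nat.sub (T_q u) (Nat.mod (T_q u) M)) (nat_lit 40) (Nat.mod (T_q u) M) u) (lS MG [T_pi, T_di, T_mi, T_n, T_m, T_m, T_m, T_d] M (Nat.sub (T_q u) (Nat.mod (T_q u) M)) (nat_lit 40) (Nat.mod (T_q u) M) u) (Nat.ble (nat_lit 21) j)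
noncomputable def dp_q_14 (j u : ℕ) : Bool :=
  Bool.rec (motive := fun _ => Bool) (lS MG [T_p, T_di, T_m, T_m, T_n, T_mi, T_mi, T_d] M (Nat.sub (T_q u) (Nat.mod (T_q u) M)) (nat_lit 40) (Nat.mod (T_q u) M) u) (lH [] [] M (Nat.sub (T_q u) (Nat.mod (T_q u) M)) (Nat.mod (T_q u) M) u) (Nat.ble (nat_lit 24) j)
noncomputable def dp_q_15 (j u : ℕ) : Bool :=
  Bool.rec (motive := fun _ => Bool) (lF [T_p, T_m, T_qi, T_pi, T_qi, T_m, T_p] M (Nat.sub (T_q u) (Nat.mod (T_q u) M)) (Nat.mod (T_q u) M) u) (dp_q_14 j u) (Nat.ble (nat_lit 23) j)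
noncomputable def dp_q_16 (j u : ℕ) : Bool :=
  Bool.rec (motive := fun _ => Bool) (dp_q_13 j u) (dp_q_15 j u) (Nat.ble (nat_lit 22) j)
noncomputable def dp_q_17 (j u : ℕ) : Bool :=
  Bool.rec (motive := fun _ => Bool) (lF [T_ni, T_pi, T_di, T_p, T_n, T_qi, T_p, T_di, T_pi] M (Nat.sub (T_q u) (Nat.mod (T_q u) M)) (Nat.mod (T_q u) M) u) (lS MG [T_p, T_q, T_mi, T_q, T_p, T_q, T_mi] M (Nat.sub (T_q u) (Nat.mod (T_q u) M)) (nat_lit 40) (Nat.mod (T_q u) M) u) (Nat.ble (nat_lit 26) j)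
noncomputable def dp_q_18 (j u : ℕ) : Bool :=
  Bool.rec (motive := fun _ => Bool) (lF [T_p, T_di, T_m, T_m, T_n, T_mi, T_mi, T_d] M (Nat.sub (T_q u) (Nat.mod (T_q u) M)) (Nat.mod (T_q u) M) u) (lS MG [T_p, T_q, T_pi, T_q, T_p, T_q, T_pi] M (Nat.sub (T_q u) (Nat.mod (T_q u) M)) (nat_lit 40) (Nat.mod (T_q u) M) u) (Nat.ble (nat_lit 29) j)
noncomputable def dp_q_19 (j u : ℕ) : Bool :=
  Bool.rec (motive := fun _ => Bool) (lS MG [T_ni, T_p, T_p, T_ni, T_pi, T_n, T_pi] M (Nat.sub (T_q u) (Nat.mod (T_q u) M)) (nat_lit 40) (Nat.mod (T_q u) M) u) (dp_q_18 j u) (Nat.ble (nat_lit 28) j)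
noncomputable def dp_q_20 (j u : ℕ) : Bool :=
  Bool.rec (motive := fun _ => Bool) (dp_q_17 j u) (dp_q_19 j u) (Nat.ble (nat_lit 27) j)
noncomputable def dp_q_21 (j u : ℕ) : Bool :=
  Bool.rec (motive := fun _ => Bool) (lF [T_p, T_q, T_mi, T_pi, T_qi, T_pi, T_mi] M (Nat.sub (T_q u) (Nat.mod (T_q u) M)) (Nat.mod (T_q u) M) u) (lF [T_mi, T_q, T_p, T_q, T_mi, T_q, T_p] M (Nat.sub (T_q u) (Nat.mod (T_q u) M)) (Nat.mod (T_q u) M) u) (Nat.ble (nat_lit 32) j)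
noncomputable def dp_q_22 (j u : ℕ) : Bool :=
  Bool.rec (motive := fun _ => Bool) (lF [T_ni, T_p, T_p, T_ni, T_pi, T_n, T_pi] M (Nat.sub (T_q u) (Nat.mod (T_q u) M)) (Nat.mod (T_q u) M) u) (dp_q_21 j u) (Nat.ble (nat_lit 31) j)
noncomputable def dp_q_23 (j u : ℕ) : Bool :=
  Bool.rec (motive := fun _ => Bool) (lS MG [T_ni, T_q, T_n, T_qi, T_p, T_n, T_pi] M (Nat.sub (T_q u) (Nat.mod (T_q u) M)) (nat_lit 40) (Nat.mod (T_q u) M) u) (lF [T_ni, T_q, T_n, T_qi, T_p, T_n, T_pi] M (Nat.sub (T_q u) (Nat.mod (T_q u) M)) (Nat.mod (T_q u) M) u) (Nat.ble (nat_lit 35) j)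
noncomputable def dp_q_24 (j u : ℕ) : Bool :=
  Bool.rec (motive := fun _ => Bool) (lS MG [T_p, T_q, T_mi, T_pi, T_qi, T_pi, T_mi] M (Nat.sub (T_q u) (Nat.mod (T_q u) M)) (nat_lit 40) (Nat.mod (T_q u) M) u) (dp_q_23 j u) (Nat.ble (nat_lit 34) j)
noncomputable def dp_q_25 (j u : ℕ) : Bool :=
  Bool.rec (motive := fun _ => Bool) (dp_q_22 j u) (dp_q_24 j u) (Nat.ble (nat_lit 33) j)
noncomputable def dp_q_26 (j u : ℕ) : Bool :=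
  Bool.rec (motive := fun _ => Bool) (dp_q_20 j u) (dp_q_25 j u) (Nat.ble (nat_lit 30) j)
noncomputable def dp_q_27 (j u : ℕ) : Bool :=
  Bool.rec (motive := fun _ => Bool) (dp_q_16 j u) (dp_q_26 j u) (Nat.ble (nat_lit 25) j)
noncomputable def dp_q_28 (j u : ℕ) : Bool :=
  Bool.rec (motive := fun _ => Bool) (dp_q_12 j u) (dp_q_27 j u) (Nat.ble (nat_lit 20) j)
noncomputable def dp_q_29 (j u : ℕ) : Bool :=
  Bool.rec (motive := fun _ => Bool) (dp_q_6 j u) (dp_q_28 j u) (Nat.ble (nat_lit 13) j)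
noncomputable def dp_q_30 (j u : ℕ) : Bool :=
  Bool.rec (motive := fun _ => Bool) (Bool.rec (motive := fun _ => Bool) (lDef P (nat_lit 6) (Nat.mod (T_q u) M) u) (lS MG [T_qi] M (Nat.sub (T_q u) (Nat.mod (T_q u) M)) (nat_lit 40) (Nat.mod (T_q u) M) u) (Nat.ble (nat_lit 4) j)) (dp_q_29 j u) (Nat.ble (nat_lit 5) j)
noncomputable def disp_q (j u : ℕ) : Bool :=
  Bool.rec (motive := fun _ => Bool) (Bool.rec (motive := fun _ => Bool) (lF1 T_qi M (Nat.sub (T_q u) (Nat.mod (T_q u) M)) (Nat.mod (T_q u) M) u) (Bool.rec (motive := fun _ => Bool) (lF [T_q, T_q] M (Nat.sub (T_q u) (Nat.mod (T_q u) M)) (Nat.mod (T_q u) M) u) (lDef P (nat_lit 7) u (Nat.mod (T_q u) M)) (Nat.ble (nat_lit 2) j)) (Nat.ble (nat_lit 1) j)) (dp_q_30 j u) (Nat.ble (nat_lit 3) j)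
noncomputable def chk_q (j u : ℕ) : Bool :=
  Bool.rec (motive := fun _ => Bool) (disp_q j u) (Nat.ble (Nat.succ (MG u)) A) (Nat.ble A (T_q u))
noncomputable def dp_qi_0 (j u : ℕ) : Bool :=
  Bool.rec (motive := fun _ => Bool) (lF [T_pi, T_qi, T_p, T_qi, T_pi, T_qi, T_p] M (Nat.sub (T_qi u) (Nat.mod (T_qi u) M)) (Nat.mod (T_qi u) M) u) (lS MG [T_p, T_di, T_m, T_ni, T_mi, T_mi, T_mi, T_d] M (Nat.sub (T_qi u) (Nat.mod (T_qi u) M)) (nat_lit 40) (Nat.mod (T_qi u) M) u) (Nat.ble (nat_lit 7) j)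
noncomputable def dp_qi_1 (j u : ℕ) : Bool :=
  Bool.rec (motive := fun _ => Bool) (lF [T_p, T_ni, T_p, T_n, T_pi, T_pi, T_n] M (Nat.sub (T_qi u) (Nat.mod (T_qi u) M)) (Nat.mod (T_qi u) M) u) (dp_qi_0 j u) (Nat.ble (nat_lit 6) j)
noncomputable def dp_qi_2 (j u : ℕ) : Bool :=
  Bool.rec (motive := fun _ => Bool) (lS MG [T_n, T_p, T_ni, T_qi, T_n, T_p, T_ni] M (Nat.sub (T_qi u) (Nat.mod (T_qi u) M)) (nat_lit 40) (Nat.mod (T_qi u) M) u) (lF [T_p, T_n, T_pi, T_q, T_ni, T_q, T_n] M (Nat.sub (T_qi u) (Nat.mod (T_qi u) M)) (Nat.mod (T_qi u) M) u) (Nat.ble (nat_lit 9) j)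
noncomputable def dp_qi_3 (j u : ℕ) : Bool :=
  Bool.rec (motive := fun _ => Bool) (lS MG [T_di, T_pi, T_q, T_ni, T_qi, T_n, T_qi, T_p, T_d] M (Nat.sub (T_qi u) (Nat.mod (T_qi u) M)) (nat_lit 40) (Nat.mod (T_qi u) M) u) (lF [T_n, T_qi, T_p, T_ni, T_pi, T_q, T_ni] M (Nat.sub (T_qi u) (Nat.mod (T_qi u) M)) (Nat.mod (T_qi u) M) u) (Nat.ble (nat_lit 11) j)
noncomputable def dp_qi_4 (j u : ℕ) : Bool :=
  Bool.rec (motive := fun _ => Bool) (lS MG [T_pi, T_qi, T_m, T_qi, T_pi, T_qi, T_m] M (Nat.sub (T_qi u) (Nat.mod (T_qi u) M)) (nat_lit 40) (Nat.mod (T_qi u) M) u) (lF [T_di, T_m, T_m, T_ni, T_mi, T_mi, T_d, T_pi] M (Nat.sub (T_qi u) (Nat.mod (T_qi u) M)) (Nat.mod (T_qi u) M) u) (Nat.ble (nat_lit 13) j)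
noncomputable def dp_qi_5 (j u : ℕ) : Bool :=
  Bool.rec (motive := fun _ => Bool) (dp_qi_3 j u) (dp_qi_4 j u) (Nat.ble (nat_lit 12) j)
noncomputable def dp_qi_6 (j u : ℕ) : Bool :=
  Bool.rec (motive := fun _ => Bool) (dp_qi_2 j u) (dp_qi_5 j u) (Nat.ble (nat_lit 10) j)
noncomputable def dp_qi_7 (j u : ℕ) : Bool :=
  Bool.rec (motive := fun _ => Bool) (lS MG [T_di, T_mi, T_mi, T_mi, T_ni, T_m, T_d, T_p] M (Nat.sub (T_qi u) (Nat.mod (T_qi u) M)) (nat_lit 40) (Nat.mod (T_qi u) M) u) (lF [T_n, T_p, T_ni, T_qi, T_n, T_p, T_ni] M (Nat.sub (T_qi u) (Nat.mod (T_qi u) M)) (Nat.mod (T_qi u) M) u) (Nat.ble (nat_lit 15) j)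
noncomputable def dp_qi_8 (j u : ℕ) : Bool :=
  Bool.rec (motive := fun _ => Bool) (lS MG [T_p, T_p, T_ni, T_qi, T_p, T_p, T_ni] M (Nat.sub (T_qi u) (Nat.mod (T_qi u) M)) (nat_lit 40) (Nat.mod (T_qi u) M) u) (lS MG [T_p, T_n, T_pi, T_q, T_ni, T_q, T_n] M (Nat.sub (T_qi u) (Nat.mod (T_qi u) M)) (nat_lit 40) (Nat.mod (T_qi u) M) u) (Nat.ble (nat_lit 18) j)
noncomputable def dp_qi_9 (j u : ℕ) : Bool :=
  Bool.rec (motive := fun _ => Bool) (lF [T_pi, T_qi, T_m, T_qi, T_pi, T_qi, T_m] M (Nat.sub (T_qi u) (Nat.mod (T_qi u) M)) (Nat.mod (T_qi u) M) u) (dp_qi_8 j u) (Nat.ble (nat_lit 17) j)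
noncomputable def dp_qi_10 (j u : ℕ) : Bool :=
  Bool.rec (motive := fun _ => Bool) (dp_qi_7 j u) (dp_qi_9 j u) (Nat.ble (nat_lit 16) j)
noncomputable def dp_qi_11 (j u : ℕ) : Bool :=
  Bool.rec (motive := fun _ => Bool) (lS MG [T_p, T_ni, T_p, T_n, T_pi, T_pi, T_n] M (Nat.sub (T_qi u) (Nat.mod (T_qi u) M)) (nat_lit 40) (Nat.mod (T_qi u) M) u) (lS MG [T_m, T_qi, T_pi, T_qi, T_m, T_qi, T_pi] M (Nat.sub (T_qi u) (Nat.mod (T_qi u) M)) (nat_lit 40) (Nat.mod (T_qi u) M) u) (Nat.ble (nat_lit 20) j)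
noncomputable def dp_qi_12 (j u : ℕ) : Bool :=
  Bool.rec (motive := fun _ => Bool) (lS MG [T_p, T_d, T_pi, T_q, T_ni, T_pi, T_d, T_p, T_n] M (Nat.sub (T_qi u) (Nat.mod (T_qi u) M)) (nat_lit 40) (Nat.mod (T_qi u) M) u) (lS MG [T_p, T_ni, T_pi, T_q, T_ni, T_qi, T_n] M (Nat.sub (T_qi u) (Nat.mod (T_qi u) M)) (nat_lit 40) (Nat.mod (T_qi u) M) u) (Nat.ble (nat_lit 23) j)
noncomputable def dp_qi_13 (j u : ℕ) : Bool :=
  Bool.rec (motive := fun _ => Bool) (lF [T_p, T_qi, T_pi, T_qi, T_p, T_qi, T_pi] M (Nat.sub (T_qi u) (Nat.mod (T_qi u) M)) (Nat.mod (T_qi u) M) u) (dp_qi_12 j u) (Nat.ble (nat_lit 22) j)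
noncomputable def dp_qi_14 (j u : ℕ) : Bool :=
  Bool.rec (motive := fun _ => Bool) (dp_qi_11 j u) (dp_qi_13 j u) (Nat.ble (nat_lit 21) j)
noncomputable def dp_qi_15 (j u : ℕ) : Bool :=
  Bool.rec (motive := fun _ => Bool) (lF [T_m, T_qi, T_pi, T_qi, T_m, T_qi, T_pi] M (Nat.sub (T_qi u) (Nat.mod (T_qi u) M)) (Nat.mod (T_qi u) M) u) (lS MG [T_p, T_qi, T_pi, T_qi, T_p, T_qi, T_pi] M (Nat.sub (T_qi u) (Nat.mod (T_qi u) M)) (nat_lit 40) (Nat.mod (T_qi u) M) u) (Nat.ble (nat_lit 25) j)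
noncomputable def dp_qi_16 (j u : ℕ) : Bool :=
  Bool.rec (motive := fun _ => Bool) (lF [T_di, T_pi, T_q, T_ni, T_qi, T_n, T_qi, T_p, T_d] M (Nat.sub (T_qi u) (Nat.mod (T_qi u) M)) (Nat.mod (T_qi u) M) u) (lF [T_pi, T_qi, T_m, T_p, T_q, T_p, T_m] M (Nat.sub (T_qi u) (Nat.mod (T_qi u) M)) (Nat.mod (T_qi u) M) u) (Nat.ble (nat_lit 27) j)
noncomputable def dp_qi_17 (j u : ℕ) : Bool :=
  Bool.rec (motive := fun _ => Bool) (dp_qi_15 j u) (dp_qi_16 j u) (Nat.ble (nat_lit 26) j)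
noncomputable def dp_qi_18 (j u : ℕ) : Bool :=
  Bool.rec (motive := fun _ => Bool) (lS MG [T_qi, T_qi] M (Nat.sub (T_qi u) (Nat.mod (T_qi u) M)) (nat_lit 40) (Nat.mod (T_qi u) M) u) (lS MG [T_di, T_m, T_m, T_ni, T_mi, T_mi, T_d, T_pi] M (Nat.sub (T_qi u) (Nat.mod (T_qi u) M)) (nat_lit 40) (Nat.mod (T_qi u) M) u) (Nat.ble (nat_lit 29) j)
noncomputable def dp_qi_19 (j u : ℕ) : Bool :=
  Bool.rec (motive := fun _ => Bool) (lS MG [T_pi, T_mi, T_q, T_p, T_q, T_mi, T_pi] M (Nat.sub (T_qi u) (Nat.mod (T_qi u) M)) (nat_lit 40) (Nat.mod (T_qi u) M) u) (lF [T_p, T_p, T_ni, T_qi, T_p, T_p, T_ni] M (Nat.sub (T_qi u) (Nat.mod (T_qi u) M)) (Nat.mod (T_qi u) M) u) (Nat.ble (nat_lit 31) j)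
noncomputable def dp_qi_20 (j u : ℕ) : Bool :=
  Bool.rec (motive := fun _ => Bool) (dp_qi_18 j u) (dp_qi_19 j u) (Nat.ble (nat_lit 30) j)
noncomputable def dp_qi_21 (j u : ℕ) : Bool :=
  Bool.rec (motive := fun _ => Bool) (dp_qi_17 j u) (dp_qi_20 j u) (Nat.ble (nat_lit 28) j)
noncomputable def dp_qi_22 (j u : ℕ) : Bool :=
  Bool.rec (motive := fun _ => Bool) (dp_qi_14 j u) (dp_qi_21 j u) (Nat.ble (nat_lit 24) j)
noncomputable def dp_qi_23 (j u : ℕ) : Bool :=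
  Bool.rec (motive := fun _ => Bool) (dp_qi_10 j u) (dp_qi_22 j u) (Nat.ble (nat_lit 19) j)
noncomputable def dp_qi_24 (j u : ℕ) : Bool :=
  Bool.rec (motive := fun _ => Bool) (dp_qi_6 j u) (dp_qi_23 j u) (Nat.ble (nat_lit 14) j)
noncomputable def dp_qi_25 (j u : ℕ) : Bool :=
  Bool.rec (motive := fun _ => Bool) (Bool.rec (motive := fun _ => Bool) (lF [T_qi, T_qi] M (Nat.sub (T_qi u) (Nat.mod (T_qi u) M)) (Nat.mod (T_qi u) M) u) (dp_qi_1 j u) (Nat.ble (nat_lit 5) j)) (dp_qi_24 j u) (Nat.ble (nat_lit 8) j)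
noncomputable def disp_qi (j u : ℕ) : Bool :=
  Bool.rec (motive := fun _ => Bool) (Bool.rec (motive := fun _ => Bool) (lF1 T_q M (Nat.sub (T_qi u) (Nat.mod (T_qi u) M)) (Nat.mod (T_qi u) M) u) (lDef P (nat_lit 7) (Nat.mod (T_qi u) M) u) (Nat.ble (nat_lit 1) j)) (Bool.rec (motive := fun _ => Bool) (Bool.rec (motive := fun _ => Bool) (lDef P (nat_lit 6) u (Nat.mod (T_qi u) M)) (lS MG [T_q] M (Nat.sub (T_qi u) (Nat.mod (T_qi u) M)) (nat_lit 40) (Nat.mod (T_qi u) M) u) (Nat.ble (nat_lit 3) j)) (dp_qi_25 j u) (Nat.ble (nat_lit 4) j)) (Nat.ble (nat_lit 2) j)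
noncomputable def chk_qi (j u : ℕ) : Bool :=
  Bool.rec (motive := fun _ => Bool) (disp_qi j u) (Nat.ble (Nat.succ (MG u)) A) (Nat.ble A (T_qi u))
noncomputable def dp_d_0 (j u : ℕ) : Bool :=
  Bool.rec (motive := fun _ => Bool) (lS MG [T_pi, T_qi, T_di, T_m, T_m, T_ni, T_mi, T_mi] M (Nat.sub (T_d u) (Nat.mod (T_d u) M)) (nat_lit 40) (Nat.mod (T_d u) M) u) (lS MG [T_p, T_qi, T_di, T_mi, T_mi, T_mi, T_ni, T_m] M (Nat.sub (T_d u) (Nat.mod (T_d u) M)) (nat_lit 40) (Nat.mod (T_d u) M) u) (Nat.ble (nat_lit 7) j)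
noncomputable def dp_d_1 (j u : ℕ) : Bool :=
  Bool.rec (motive := fun _ => Bool) (lS MG [T_pi, T_q, T_di, T_m, T_m, T_m, T_n, T_mi] M (Nat.sub (T_d u) (Nat.mod (T_d u) M)) (nat_lit 40) (Nat.mod (T_d u) M) u) (lF [T_q, T_p, T_di, T_m, T_m, T_n, T_mi, T_mi] M (Nat.sub (T_d u) (Nat.mod (T_d u) M)) (Nat.mod (T_d u) M) u) (Nat.ble (nat_lit 9) j)
noncomputable def dp_d_2 (j u : ℕ) : Bool :=
  Bool.rec (motive := fun _ => Bool) (dp_d_0 j u) (dp_d_1 j u) (Nat.ble (nat_lit 8) j)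
noncomputable def dp_d_3 (j u : ℕ) : Bool :=
  Bool.rec (motive := fun _ => Bool) (lS MG [T_q, T_pi, T_di, T_mi, T_n, T_m, T_m, T_m] M (Nat.sub (T_d u) (Nat.mod (T_d u) M)) (nat_lit 40) (Nat.mod (T_d u) M) u) (lF [T_qi, T_p, T_di, T_m, T_ni, T_mi, T_mi, T_mi] M (Nat.sub (T_d u) (Nat.mod (T_d u) M)) (Nat.mod (T_d u) M) u) (Nat.ble (nat_lit 11) j)
noncomputable def dp_d_4 (j u : ℕ) : Bool :=
  Bool.rec (motive := fun _ => Bool) (lF [T_pi, T_qi, T_di, T_m, T_m, T_ni, T_mi, T_mi] M (Nat.sub (T_d u) (Nat.mod (T_d u) M)) (Nat.mod (T_d u) M) u) (lS MG [T_qi, T_p, T_di, T_m, T_ni, T_mi, T_mi, T_mi] M (Nat.sub (T_d u) (Nat.mod (T_d u) M)) (nat_lit 40) (Nat.mod (T_d u) M) u) (Nat.ble (nat_lit 13) j)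
noncomputable def dp_d_5 (j u : ℕ) : Bool :=
  Bool.rec (motive := fun _ => Bool) (dp_d_3 j u) (dp_d_4 j u) (Nat.ble (nat_lit 12) j)
noncomputable def dp_d_6 (j u : ℕ) : Bool :=
  Bool.rec (motive := fun _ => Bool) (lF [T_p, T_qi, T_di, T_mi, T_mi, T_mi, T_ni, T_m] M (Nat.sub (T_d u) (Nat.mod (T_d u) M)) (Nat.mod (T_d u) M) u) (lS MG [T_q, T_p, T_di, T_m, T_m, T_n, T_mi, T_mi] M (Nat.sub (T_d u) (Nat.mod (T_d u) M)) (nat_lit 40) (Nat.mod (T_d u) M) u) (Nat.ble (nat_lit 15) j)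
noncomputable def dp_d_7 (j u : ℕ) : Bool :=
  Bool.rec (motive := fun _ => Bool) (lF [T_q, T_di, T_pi, T_q, T_ni, T_q, T_n, T_qi, T_p] M (Nat.sub (T_d u) (Nat.mod (T_d u) M)) (Nat.mod (T_d u) M) u) (lF [T_qi, T_di, T_pi, T_q, T_ni, T_qi, T_n, T_qi, T_p] M (Nat.sub (T_d u) (Nat.mod (T_d u) M)) (Nat.mod (T_d u) M) u) (Nat.ble (nat_lit 17) j)
noncomputable def dp_d_8 (j u : ℕ) : Bool :=
  Bool.rec (motive := fun _ => Bool) (lS MG [T_qi, T_di, T_pi, T_q, T_ni, T_qi, T_n, T_qi, T_p] M (Nat.sub (T_d u) (Nat.mod (T_d u) M)) (nat_lit 40) (Nat.mod (T_d u) M) u) (lS MG [T_pi, T_q, T_ni, T_pi, T_d, T_p, T_n, T_qi, T_p] M (Nat.sub (T_d u) (Nat.mod (T_d u) M)) (nat_lit 40) (Nat.mod (T_d u) M) u) (Nat.ble (nat_lit 19) j)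
noncomputable def dp_d_9 (j u : ℕ) : Bool :=
  Bool.rec (motive := fun _ => Bool) (lS MG [T_p, T_n, T_qi, T_p, T_d, T_pi, T_q, T_ni, T_pi] M (Nat.sub (T_d u) (Nat.mod (T_d u) M)) (nat_lit 40) (Nat.mod (T_d u) M) u) (lF [T_pi, T_q, T_di, T_m, T_m, T_m, T_n, T_mi] M (Nat.sub (T_d u) (Nat.mod (T_d u) M)) (Nat.mod (T_d u) M) u) (Nat.ble (nat_lit 21) j)
noncomputable def dp_d_10 (j u : ℕ) : Bool :=
  Bool.rec (motive := fun _ => Bool) (dp_d_8 j u) (dp_d_9 j u) (Nat.ble (nat_lit 20) j)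
noncomputable def dp_d_11 (j u : ℕ) : Bool :=
  Bool.rec (motive := fun _ => Bool) (dp_d_7 j u) (dp_d_10 j u) (Nat.ble (nat_lit 18) j)
noncomputable def dp_d_12 (j u : ℕ) : Bool :=
  Bool.rec (motive := fun _ => Bool) (dp_d_6 j u) (dp_d_11 j u) (Nat.ble (nat_lit 16) j)
noncomputable def dp_d_13 (j u : ℕ) : Bool :=
  Bool.rec (motive := fun _ => Bool) (dp_d_5 j u) (dp_d_12 j u) (Nat.ble (nat_lit 14) j)
noncomputable def dp_d_14 (j u : ℕ) : Bool :=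
  Bool.rec (motive := fun _ => Bool) (dp_d_2 j u) (dp_d_13 j u) (Nat.ble (nat_lit 10) j)
noncomputable def dp_d_15 (j u : ℕ) : Bool :=
  Bool.rec (motive := fun _ => Bool) (Bool.rec (motive := fun _ => Bool) (lS MG [T_di] M (Nat.sub (T_d u) (Nat.mod (T_d u) M)) (nat_lit 40) (Nat.mod (T_d u) M) u) (lF [T_q, T_pi, T_di, T_mi, T_n, T_m, T_m, T_m] M (Nat.sub (T_d u) (Nat.mod (T_d u) M)) (Nat.mod (T_d u) M) u) (Nat.ble (nat_lit 5) j)) (dp_d_14 j u) (Nat.ble (nat_lit 6) j)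
noncomputable def dp_d_16 (j u : ℕ) : Bool :=
  Bool.rec (motive := fun _ => Bool) (lDef P (nat_lit 9) u (Nat.mod (T_d u) M)) (dp_d_15 j u) (Nat.ble (nat_lit 4) j)
noncomputable def disp_d (j u : ℕ) : Bool :=
  Bool.rec (motive := fun _ => Bool) (Bool.rec (motive := fun _ => Bool) (lF [T_d, T_d] M (Nat.sub (T_d u) (Nat.mod (T_d u) M)) (Nat.mod (T_d u) M) u) (Bool.rec (motive := fun _ => Bool) (lF1 T_di M (Nat.sub (T_d u) (Nat.mod (T_d u) M)) (Nat.mod (T_d u) M) u) (lDef P (nat_lit 8) (Nat.mod (T_d u) M) u) (Nat.ble (nat_lit 2) j)) (Nat.ble (nat_lit 1) j)) (dp_d_16 j u) (Nat.ble (nat_lit 3) j)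
noncomputable def chk_d (j u : ℕ) : Bool :=
  Bool.rec (motive := fun _ => Bool) (disp_d j u) (Nat.ble (Nat.succ (MG u)) A) (Nat.ble A (T_d u))
noncomputable def dp_di_0 (j u : ℕ) : Bool :=
  Bool.rec (motive := fun _ => Bool) (lF [T_m, T_m, T_m, T_n, T_mi, T_d, T_pi, T_q] M (Nat.sub (T_di u) (Nat.mod (T_di u) M)) (Nat.mod (T_di u) M) u) (lS MG [T_m, T_m, T_m, T_n, T_mi, T_d, T_pi, T_q] M (Nat.sub (T_di u) (Nat.mod (T_di u) M)) (nat_lit 40) (Nat.mod (T_di u) M) u) (Nat.ble (nat_lit 6) j)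
noncomputable def dp_di_1 (j u : ℕ) : Bool :=
  Bool.rec (motive := fun _ => Bool) (lF [T_di, T_di] M (Nat.sub (T_di u) (Nat.mod (T_di u) M)) (Nat.mod (T_di u) M) u) (dp_di_0 j u) (Nat.ble (nat_lit 5) j)
noncomputable def dp_di_2 (j u : ℕ) : Bool :=
  Bool.rec (motive := fun _ => Bool) (lS MG [T_mi, T_mi, T_mi, T_ni, T_m, T_d, T_p, T_qi] M (Nat.sub (T_di u) (Nat.mod (T_di u) M)) (nat_lit 40) (Nat.mod (T_di u) M) u) (lF [T_m, T_ni, T_mi, T_mi, T_mi, T_d, T_qi, T_p] M (Nat.sub (T_di u) (Nat.mod (T_di u) M)) (Nat.mod (T_di u) M) u) (Nat.ble (nat_lit 8) j)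
noncomputable def dp_di_3 (j u : ℕ) : Bool :=
  Bool.rec (motive := fun _ => Bool) (lF [T_m, T_m, T_n, T_mi, T_mi, T_d, T_q, T_p] M (Nat.sub (T_di u) (Nat.mod (T_di u) M)) (Nat.mod (T_di u) M) u) (lS MG [T_m, T_ni, T_mi, T_mi, T_mi, T_d, T_qi, T_p] M (Nat.sub (T_di u) (Nat.mod (T_di u) M)) (nat_lit 40) (Nat.mod (T_di u) M) u) (Nat.ble (nat_lit 10) j)
noncomputable def dp_di_4 (j u : ℕ) : Bool :=
  Bool.rec (motive := fun _ => Bool) (dp_di_2 j u) (dp_di_3 j u) (Nat.ble (nat_lit 9) j)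
noncomputable def dp_di_5 (j u : ℕ) : Bool :=
  Bool.rec (motive := fun _ => Bool) (lS MG [T_m, T_m, T_n, T_mi, T_mi, T_d, T_q, T_p] M (Nat.sub (T_di u) (Nat.mod (T_di u) M)) (nat_lit 40) (Nat.mod (T_di u) M) u) (lF [T_m, T_m, T_ni, T_mi, T_mi, T_d, T_pi, T_qi] M (Nat.sub (T_di u) (Nat.mod (T_di u) M)) (Nat.mod (T_di u) M) u) (Nat.ble (nat_lit 12) j)
noncomputable def dp_di_6 (j u : ℕ) : Bool :=
  Bool.rec (motive := fun _ => Bool) (lF [T_mi, T_n, T_m, T_m, T_m, T_d, T_q, T_pi] M (Nat.sub (T_di u) (Nat.mod (T_di u) M)) (Nat.mod (T_di u) M) u) (lS MG [T_pi, T_q, T_ni, T_qi, T_n, T_qi, T_p, T_d, T_qi] M (Nat.sub (T_di u) (Nat.mod (T_di u) M)) (nat_lit 40) (Nat.mod (T_di u) M) u) (Nat.ble (nat_lit 14) j)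
noncomputable def dp_di_7 (j u : ℕ) : Bool :=
  Bool.rec (motive := fun _ => Bool) (dp_di_5 j u) (dp_di_6 j u) (Nat.ble (nat_lit 13) j)
noncomputable def dp_di_8 (j u : ℕ) : Bool :=
  Bool.rec (motive := fun _ => Bool) (lS MG [T_m, T_m, T_ni, T_mi, T_mi, T_d, T_pi, T_qi] M (Nat.sub (T_di u) (Nat.mod (T_di u) M)) (nat_lit 40) (Nat.mod (T_di u) M) u) (lF [T_mi, T_mi, T_mi, T_ni, T_m, T_d, T_p, T_qi] M (Nat.sub (T_di u) (Nat.mod (T_di u) M)) (Nat.mod (T_di u) M) u) (Nat.ble (nat_lit 17) j)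
noncomputable def dp_di_9 (j u : ℕ) : Bool :=
  Bool.rec (motive := fun _ => Bool) (lF [T_pi, T_q, T_ni, T_qi, T_n, T_qi, T_p, T_d, T_qi] M (Nat.sub (T_di u) (Nat.mod (T_di u) M)) (Nat.mod (T_di u) M) u) (dp_di_8 j u) (Nat.ble (nat_lit 16) j)
noncomputable def dp_di_10 (j u : ℕ) : Bool :=
  Bool.rec (motive := fun _ => Bool) (lS MG [T_ni, T_m, T_d, T_p, T_q, T_p, T_p, T_qi, T_pi] M (Nat.sub (T_di u) (Nat.mod (T_di u) M)) (nat_lit 40) (Nat.mod (T_di u) M) u) (lS MG [T_mi, T_n, T_m, T_m, T_m, T_d, T_q, T_pi] M (Nat.sub (T_di u) (Nat.mod (T_di u) M)) (nat_lit 40) (Nat.mod (T_di u) M) u) (Nat.ble (nat_lit 19) j)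
noncomputable def dp_di_11 (j u : ℕ) : Bool :=
  Bool.rec (motive := fun _ => Bool) (lS MG [T_p, T_n, T_qi, T_p, T_di, T_pi, T_q, T_ni, T_pi] M (Nat.sub (T_di u) (Nat.mod (T_di u) M)) (nat_lit 40) (Nat.mod (T_di u) M) u) (lS MG [T_pi, T_q, T_ni, T_q, T_n, T_qi, T_p, T_d, T_q] M (Nat.sub (T_di u) (Nat.mod (T_di u) M)) (nat_lit 40) (Nat.mod (T_di u) M) u) (Nat.ble (nat_lit 22) j)
noncomputable def dp_di_12 (j u : ℕ) : Bool :=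
  Bool.rec (motive := fun _ => Bool) (lS MG [T_mi, T_n, T_d, T_p, T_q, T_pi, T_pi, T_qi, T_pi] M (Nat.sub (T_di u) (Nat.mod (T_di u) M)) (nat_lit 40) (Nat.mod (T_di u) M) u) (dp_di_11 j u) (Nat.ble (nat_lit 21) j)
noncomputable def dp_di_13 (j u : ℕ) : Bool :=
  Bool.rec (motive := fun _ => Bool) (dp_di_10 j u) (dp_di_12 j u) (Nat.ble (nat_lit 20) j)
noncomputable def dp_di_14 (j u : ℕ) : Bool :=
  Bool.rec (motive := fun _ => Bool) (dp_di_9 j u) (dp_di_13 j u) (Nat.ble (nat_lit 18) j)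
noncomputable def dp_di_15 (j u : ℕ) : Bool :=
  Bool.rec (motive := fun _ => Bool) (dp_di_7 j u) (dp_di_14 j u) (Nat.ble (nat_lit 15) j)
noncomputable def dp_di_16 (j u : ℕ) : Bool :=
  Bool.rec (motive := fun _ => Bool) (dp_di_4 j u) (dp_di_15 j u) (Nat.ble (nat_lit 11) j)
noncomputable def dp_di_17 (j u : ℕ) : Bool :=
  Bool.rec (motive := fun _ => Bool) (dp_di_1 j u) (dp_di_16 j u) (Nat.ble (nat_lit 7) j)
noncomputable def dp_di_18 (j u : ℕ) : Bool :=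
  Bool.rec (motive := fun _ => Bool) (Bool.rec (motive := fun _ => Bool) (lDef P (nat_lit 8) u (Nat.mod (T_di u) M)) (lS MG [T_d] M (Nat.sub (T_di u) (Nat.mod (T_di u) M)) (nat_lit 40) (Nat.mod (T_di u) M) u) (Nat.ble (nat_lit 3) j)) (dp_di_17 j u) (Nat.ble (nat_lit 4) j)
noncomputable def disp_di (j u : ℕ) : Bool :=
  Bool.rec (motive := fun _ => Bool) (Bool.rec (motive := fun _ => Bool) (lF1 T_d M (Nat.sub (T_di u) (Nat.mod (T_di u) M)) (Nat.mod (T_di u) M) u) (lDef P (nat_lit 9) (Nat.mod (T_di u) M) u) (Nat.ble (nat_lit 1) j)) (dp_di_18 j u) (Nat.ble (nat_lit 2) j)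
noncomputable def chk_di (j u : ℕ) : Bool :=
  Bool.rec (motive := fun _ => Bool) (disp_di j u) (Nat.ble (Nat.succ (MG u)) A) (Nat.ble A (T_di u))
noncomputable def dM_0 (j z1 z2 u : ℕ) : Bool :=
  Bool.rec (motive := fun _ => Bool) (Bool.rec (motive := fun _ => Bool) (Bool.rec (motive := fun _ => Bool) (mCo MG T_m M (Nat.sub (MG u) (Nat.mod (MG u) M)) (nat_lit 40) z1 z2 u (Nat.mod (MG u) M)) (mCo MG T_mi M (Nat.sub (MG u) (Nat.mod (MG u) M)) (nat_lit 40) z1 z2 u (Nat.mod (MG u) M)) (Nat.ble (nat_lit 1) j)) (Bool.rec (motive := fun _ => Bool) (mCo MG T_d M (Nat.sub (MG u) (Nat.mod (MG u) M)) (nat_lit 40) z1 z2 u (Nat.mod (MG u) M)) (mCo MG T_n M (Nat.sub (MG u) (Nat.mod (MG u) M)) (nat_lit 40) z1 z2 u (Nat.mod (MG u) M)) (Nat.ble (nat_lit 3) j)) (Nat.ble (nat_lit 2) j)) (Bool.rec (motive := fun _ => Bool) (Bool.rec (motive := fun _ =>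 Bool) (mCo MG T_di M (Nat.sub (MG u) (Nat.mod (MG u) M)) (nat_lit 40) z1 z2 u (Nat.mod (MG u) M)) (Bool.rec (motive := fun _ => Bool) (mCo MG T_ni M (Nat.sub (MG u) (Nat.mod (MG u) M)) (nat_lit 40) z1 z2 u (Nat.mod (MG u) M)) (mCo MG T_q M (Nat.sub (MG u) (Nat.mod (MG u) M)) (nat_lit 40) z1 z2 u (Nat.mod (MG u) M)) (Nat.ble (nat_lit 6) j)) (Nat.ble (nat_lit 5) j)) (Bool.rec (motive := fun _ => Bool) (Bool.rec (motive := fun _ => Bool) (mCo MG T_p M (Nat.sub (MG u) (Nat.mod (MG u) M)) (nat_lit 40) z1 z2 u (Nat.mod (MG u) M)) (mCo MG T_pi M (Nat.sub (MG u) (Nat.mod (MG u) M)) (nat_lit 40) z1 z2 u (Nat.mod (MG u) M)) (Nat.ble (nat_lit 8) j)) (Bool.rec (motive := fun _ => Bool) (mCo MG T_qi M (Nat.sub (MG u) (Nat.mod (MG u) M)) (nat_lit 40) z1 z2 u (Nat.mod (MG u) M)) (mRel MG [T_mi, T_q, T_p, T_q] [T_qi, T_pi, T_qi, T_m] M (Nat.sub (MG u)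 (Nat.mod (MG u) M)) (nat_lit 40) z1 u (Nat.mod (MG u) M)) (Nat.ble (nat_lit 10) j)) (Nat.ble (nat_lit 9) j)) (Nat.ble (nat_lit 7) j)) (Nat.ble (nat_lit 4) j)
noncomputable def dM_1 (j z1 z2 u : ℕ) : Bool :=
  Bool.rec (motive := fun _ => Bool) (Bool.rec (motive := fun _ => Bool) (mRel MG [T_m, T_qi, T_pi, T_qi] [T_q, T_p, T_q, T_mi] M (Nat.sub (MG u) (Nat.mod (MG u) M)) (nat_lit 40) z1 u (Nat.mod (MG u) M)) (Bool.rec (motive := fun _ => Bool) (mRel MG [T_mi, T_q, T_p, T_q, T_mi] [T_qi, T_pi, T_qi] M (Nat.sub (MG u) (Nat.mod (MG u) M)) (nat_lit 40) z1 u (Nat.mod (MG u) M)) (Bool.rec (motive := fun _ => Bool) (mRel MG [T_d, T_pi, T_q, T_di] [T_m, T_ni, T_mi, T_mi, T_mi] M (Nat.sub (MG u) (Nat.mod (MG u) M)) (nat_lit 40) z1 u (Nat.mod (MG u) M)) (mRel MG [T_mi, T_d, T_pi, T_q, T_di] [T_ni, T_mi, T_mi, T_mi] M (Nat.sub (MG u) (Nat.mod (MG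 u) M)) (nat_lit 40) z1 u (Nat.mod (MG u) M)) (Nat.ble (nat_lit 14) j)) (Nat.ble (nat_lit 13) j)) (Nat.ble (nat_lit 12) j)) (Bool.rec (motive := fun _ => Bool) (Bool.rec (motive := fun _ => Bool) (mRel MG [T_m, T_n, T_mi, T_mi, T_d, T_q, T_p] [T_mi, T_d] M (Nat.sub (MG u) (Nat.mod (MG u) M)) (nat_lit 40) z1 u (Nat.mod (MG u) M)) (Bool.rec (motive := fun _ => Bool) (mRel MG [T_mi, T_mi, T_d, T_qi, T_p, T_di] [T_m, T_n, T_mi] M (Nat.sub (MG u) (Nat.mod (MG u) M)) (nat_lit 40) z1 u (Nat.mod (MG u) M)) (mRel MG [T_di, T_mi, T_n] [T_p, T_qi, T_di, T_mi, T_mi, T_mi] M (Nat.sub (MG u) (Nat.mod (MG u) M)) (nat_lit 40) z1 u (Nat.mod (MG u) M)) (Nat.ble (nat_lit 17) j)) (Nat.ble (nat_lit 16) j)) (Bool.rec (motive := fun _ => Bool) (mRel MG [T_pi, T_qi, T_pi, T_mi] [T_m, T_qi, T_pi, T_qi] M (Nat.sub (MG u) (Nat.mod (MG u) M)) (nat_lit 40) z1 u (Nat.mod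 (MG u) M)) (Bool.rec (motive := fun _ => Bool) (mRel MG [T_di, T_mi, T_mi, T_mi, T_ni, T_m] [T_q, T_pi, T_di] M (Nat.sub (MG u) (Nat.mod (MG u) M)) (nat_lit 40) z1 u (Nat.mod (MG u) M)) (mRel MG [T_d, T_q, T_p, T_di, T_m] [T_m, T_m, T_ni, T_mi] M (Nat.sub (MG u) (Nat.mod (MG u) M)) (nat_lit 40) z1 u (Nat.mod (MG u) M)) (Nat.ble (nat_lit 20) j)) (Nat.ble (nat_lit 19) j)) (Nat.ble (nat_lit 18) j)) (Nat.ble (nat_lit 15) j)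
noncomputable def dM_2 (j z1 z2 u : ℕ) : Bool :=
  Bool.rec (motive := fun _ => Bool) (Bool.rec (motive := fun _ => Bool) (mRel MG [T_m, T_qi, T_pi, T_qi, T_m] [T_q, T_p, T_q] M (Nat.sub (MG u) (Nat.mod (MG u) M)) (nat_lit 40) z1 u (Nat.mod (MG u) M)) (Bool.rec (motive := fun _ => Bool) (mRel MG [T_ni, T_mi, T_mi, T_mi] [T_mi, T_d, T_pi, T_q, T_di] M (Nat.sub (MG u) (Nat.mod (MG u) M)) (nat_lit 40) z1 u (Nat.mod (MG u) M)) (mRel MG [T_p, T_ni, T_p] [T_q, T_ni, T_p, T_p, T_ni] M (Nat.sub (MG u) (Nat.mod (MG u) M)) (nat_lit 40) z1 u (Nat.mod (MG u) M)) (Nat.ble (nat_lit 23) j)) (Nat.ble (nat_lit 22) j)) (Bool.rec (motive := fun _ => Bool) (mRel MG [T_p, T_q, T_mi, T_q, T_p, T_q] [T_qi, T_m] M (Nat.sub (MG u) (Nat.mod (MG u) M)) (nat_lit 40) z1 u (Nat.mod (MG u) M)) (Bool.rec (motive := fun _ => Bool) (mRel MG [T_p, T_q, T_pi, T_q, T_p] [T_qi,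 T_p, T_qi] M (Nat.sub (MG u) (Nat.mod (MG u) M)) (nat_lit 40) z1 u (Nat.mod (MG u) M)) (mRel MG [T_p, T_d] [T_q, T_ni, T_qi, T_n, T_qi, T_p, T_d, T_qi] M (Nat.sub (MG u) (Nat.mod (MG u) M)) (nat_lit 40) z1 u (Nat.mod (MG u) M)) (Nat.ble (nat_lit 26) j)) (Nat.ble (nat_lit 25) j)) (Nat.ble (nat_lit 24) j)
noncomputable def dM_3 (j z1 z2 u : ℕ) : Bool :=
  Bool.rec (motive := fun _ => Bool) (Bool.rec (motive := fun _ => Bool) (mRel MG [T_m, T_ni, T_mi, T_mi, T_mi] [T_d, T_pi, T_q, T_di] M (Nat.sub (MG u) (Nat.mod (MG u) M)) (nat_lit 40) z1 u (Nat.mod (MG u) M)) (Bool.rec (motive := fun _ => Bool) (mRel MG [T_m, T_n, T_mi, T_mi] [T_mi, T_d, T_pi, T_qi, T_di] M (Nat.sub (MG u) (Nat.mod (MG u) M)) (nat_lit 40) z1 u (Nat.mod (MG u) M)) (mRel MG [T_pi] [T_n, T_pi, T_pi, T_n, T_qi, T_p, T_ni] M (Nat.sub (MG u) (Nat.mod (MG u) M)) (nat_lit 40) z1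 u (Nat.mod (MG u) M)) (Nat.ble (nat_lit 29) j)) (Nat.ble (nat_lit 28) j)) (Bool.rec (motive := fun _ => Bool) (Bool.rec (motive := fun _ => Bool) (mRel MG [T_ni, T_qi, T_n, T_qi, T_p, T_d] [T_qi, T_p, T_d, T_q] M (Nat.sub (MG u) (Nat.mod (MG u) M)) (nat_lit 40) z1 u (Nat.mod (MG u) M)) (Bool.rec (motive := fun _ => Bool) (mRel MG [T_di, T_mi, T_mi, T_mi, T_ni, T_m, T_d] [T_q, T_pi] M (Nat.sub (MG u) (Nat.mod (MG u) M)) (nat_lit 40) z1 u (Nat.mod (MG u) M)) (mRel MG [T_ni, T_m, T_d] [T_d, T_p, T_q, T_pi, T_pi, T_qi, T_pi] M (Nat.sub (MG u) (Nat.mod (MG u) M)) (nat_lit 40) z1 u (Nat.mod (MG u) M)) (Nat.ble (nat_lit 32) j)) (Nat.ble (nat_lit 31) j)) (Bool.rec (motive := fun _ => Bool) (mRel MG [T_p, T_d, T_p, T_d, T_p, T_d, T_p, T_d] [T_di, T_pi, T_di, T_pi] M (Nat.sub (MG u) (Nat.mod (MG u) M)) (nat_lit 40) z1 u (Nat.mod (MG u) M)) (Bool.rec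 (motive := fun _ => Bool) (mRel MG [T_n, T_mi, T_d, T_pi, T_q] [T_mi, T_mi, T_mi, T_d] M (Nat.sub (MG u) (Nat.mod (MG u) M)) (nat_lit 40) z1 u (Nat.mod (MG u) M)) (mRel MG [T_m, T_m, T_d] [T_mi, T_ni, T_m, T_d, T_p, T_qi] M (Nat.sub (MG u) (Nat.mod (MG u) M)) (nat_lit 40) z1 u (Nat.mod (MG u) M)) (Nat.ble (nat_lit 35) j)) (Nat.ble (nat_lit 34) j)) (Nat.ble (nat_lit 33) j)) (Nat.ble (nat_lit 30) j)
noncomputable def dM_4 (j z1 z2 u : ℕ) : Bool :=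
  Bool.rec (motive := fun _ => Bool) (dM_2 j z1 z2 u) (dM_3 j z1 z2 u) (Nat.ble (nat_lit 27) j)
noncomputable def dM_5 (j z1 z2 u : ℕ) : Bool :=
  Bool.rec (motive := fun _ => Bool) (dM_1 j z1 z2 u) (dM_4 j z1 z2 u) (Nat.ble (nat_lit 21) j)
noncomputable def dM_6 (j z1 z2 u : ℕ) : Bool :=
  Bool.rec (motive := fun _ => Bool) (Bool.rec (motive := fun _ => Bool) (Bool.rec (motive := fun _ => Bool) (mRel MG [T_n, T_pi, T_q, T_ni, T_q] [T_pi, T_q, T_ni] M (Nat.sub (MG u) (Nat.mod (MG u) M)) (nat_lit 40) z1 u (Nat.mod (MG u) M)) (Bool.rec (motive := fun _ => Bool) (mRel MG [T_q, T_ni, T_pi, T_d, T_p, T_n] [T_p, T_di, T_pi, T_q] M (Nat.sub (MG u) (Nat.mod (MG u) M)) (nat_lit 40) z1 u (Nat.mod (MG u) M)) (mRel MG [T_q, T_di] [T_di, T_pi, T_q, T_ni, T_qi, T_n, T_qi, T_p] M (Nat.sub (MG u) (Nat.mod (MG u) M)) (nat_lit 40) z1 u (Nat.mod (MG u) M))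 (Nat.ble (nat_lit 38) j)) (Nat.ble (nat_lit 37) j)) (Bool.rec (motive := fun _ => Bool) (mRel MG [T_qi, T_di] [T_di, T_pi, T_q, T_ni, T_q, T_n, T_qi, T_p] M (Nat.sub (MG u) (Nat.mod (MG u) M)) (nat_lit 40) z1 u (Nat.mod (MG u) M)) (Bool.rec (motive := fun _ => Bool) (mRel MG [T_d, T_p, T_qi, T_di, T_mi, T_mi, T_mi, T_ni, T_m] [] M (Nat.sub (MG u) (Nat.mod (MG u) M)) (nat_lit 40) z1 u (Nat.mod (MG u) M)) (mRel MG [T_pi, T_pi, T_q, T_n, T_pi] [T_ni, T_qi, T_p] M (Nat.sub (MG u) (Nat.mod (MG u) M)) (nat_lit 40) z1 u (Nat.mod (MG u) M)) (Nat.ble (nat_lit 41) j)) (Nat.ble (nat_lit 40) j)) (Nat.ble (nat_lit 39) j)) (Bool.rec (motive := fun _ => Bool) (Bool.rec (motive := fun _ => Bool) (mRel MG [T_qi, T_p, T_d] [T_ni, T_qi, T_n, T_qi, T_p, T_d, T_qi] M (Nat.sub (MG u) (Nat.mod (MG u) M)) (nat_lit 40) z1 u (Nat.mod (MG u) M)) (Bool.rec (motive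 := fun _ => Bool) (mRel MG [T_mi, T_n, T_d] [T_d, T_p, T_q, T_p, T_p, T_qi, T_pi] M (Nat.sub (MG u) (Nat.mod (MG u) M)) (nat_lit 40) z1 u (Nat.mod (MG u) M)) (mRel MG [T_q, T_n, T_qi] [T_n, T_qi, T_p, T_ni, T_pi] M (Nat.sub (MG u) (Nat.mod (MG u) M)) (nat_lit 40) z1 u (Nat.mod (MG u) M)) (Nat.ble (nat_lit 44) j)) (Nat.ble (nat_lit 43) j)) (Bool.rec (motive := fun _ => Bool) (mRel MG [T_di, T_m, T_m, T_ni, T_mi, T_mi, T_d] [T_q, T_p] M (Nat.sub (MG u) (Nat.mod (MG u) M)) (nat_lit 40) z1 u (Nat.mod (MG u) M)) (Bool.rec (motive := fun _ => Bool) (mRel MG [T_q, T_ni, T_p, T_p, T_ni] [T_p, T_ni, T_p] M (Nat.sub (MG u) (Nat.mod (MG u) M)) (nat_lit 40) z1 u (Nat.mod (MG u) M)) (mRel MG [T_qi, T_qi] [T_q] M (Nat.sub (MG u) (Nat.mod (MG u) M)) (nat_lit 40) z1 u (Nat.mod (MG u) M)) (Nat.ble (nat_lit 47) j)) (Nat.ble (nat_lit 46) j)) (Nat.ble (nat_lit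 45) j)) (Nat.ble (nat_lit 42) j)
noncomputable def dM_7 (j z1 z2 u : ℕ) : Bool :=
  Bool.rec (motive := fun _ => Bool) (Bool.rec (motive := fun _ => Bool) (Bool.rec (motive := fun _ => Bool) (mRel MG [T_di, T_ni, T_m, T_ni, T_mi, T_d, T_m] [T_ni, T_m, T_ni] M (Nat.sub (MG u) (Nat.mod (MG u) M)) (nat_lit 40) z1 u (Nat.mod (MG u) M)) (Bool.rec (motive := fun _ => Bool) (mRel MG [T_p, T_q, T_p, T_p, T_qi, T_pi, T_di] [T_di, T_mi, T_n] M (Nat.sub (MG u) (Nat.mod (MG u) M)) (nat_lit 40) z1 u (Nat.mod (MG u) M)) (mRel MG [T_mi, T_n] [T_d, T_p, T_q, T_p, T_p, T_qi, T_pi, T_di] M (Nat.sub (MG u) (Nat.mod (MG u) M)) (nat_lit 40) z1 u (Nat.mod (MG u) M)) (Nat.ble (nat_lit 50) j)) (Nat.ble (nat_lit 49) j)) (Bool.rec (motive := fun _ => Bool) (mRel MG [T_pi, T_q, T_ni, T_pi, T_di, T_p, T_n, T_qi] [T_d, T_pi] M (Nat.sub (MG u) (Nat.mod (MG u) M)) (nat_lit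 40) z1 u (Nat.mod (MG u) M)) (Bool.rec (motive := fun _ => Bool) (mRel MG [T_m] [T_d, T_pi, T_q, T_di, T_m, T_m, T_m, T_n] M (Nat.sub (MG u) (Nat.mod (MG u) M)) (nat_lit 40) z1 u (Nat.mod (MG u) M)) (mRel MG [T_qi, T_p, T_d, T_pi, T_q, T_ni, T_pi, T_d] [T_ni, T_pi] M (Nat.sub (MG u) (Nat.mod (MG u) M)) (nat_lit 40) z1 u (Nat.mod (MG u) M)) (Nat.ble (nat_lit 53) j)) (Nat.ble (nat_lit 52) j)) (Nat.ble (nat_lit 51) j)) (Bool.rec (motive := fun _ => Bool) (Bool.rec (motive := fun _ => Bool) (mRel MG [T_d, T_p, T_qi, T_di] [T_mi, T_n, T_m, T_m, T_m] M (Nat.sub (MG u) (Nat.mod (MG u) M)) (nat_lit 40) z1 u (Nat.mod (MG u) M)) (Bool.rec (motive := fun _ => Bool) (mRel MG [T_mi, T_mi, T_mi] [T_d, T_q, T_pi, T_di, T_mi, T_n] M (Nat.sub (MG u) (Nat.mod (MG u) M)) (nat_lit 40) z1 u (Nat.mod (MG u) M)) (mRel MG [T_m, T_m] [T_d, T_pi, T_qi, T_di, T_m,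 T_m, T_ni] M (Nat.sub (MG u) (Nat.mod (MG u) M)) (nat_lit 40) z1 u (Nat.mod (MG u) M)) (Nat.ble (nat_lit 56) j)) (Nat.ble (nat_lit 55) j)) (Bool.rec (motive := fun _ => Bool) (mRel MG [T_di, T_pi, T_q, T_ni, T_pi, T_di, T_p] [T_pi, T_q, T_ni] M (Nat.sub (MG u) (Nat.mod (MG u) M)) (nat_lit 40) z1 u (Nat.mod (MG u) M)) (Bool.rec (motive := fun _ => Bool) (mRel MG [T_m, T_d] [T_n, T_m, T_m, T_m, T_d, T_q, T_pi] M (Nat.sub (MG u) (Nat.mod (MG u) M)) (nat_lit 40) z1 u (Nat.mod (MG u) M)) (mRel MG [T_qi, T_di] [T_pi, T_di, T_mi, T_n, T_m, T_m, T_m] M (Nat.sub (MG u) (Nat.mod (MG u) M)) (nat_lit 40) z1 u (Nat.mod (MG u) M)) (Nat.ble (nat_lit 59) j)) (Nat.ble (nat_lit 58) j)) (Nat.ble (nat_lit 57) j)) (Nat.ble (nat_lit 54) j)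
noncomputable def dM_8 (j z1 z2 u : ℕ) : Bool :=
  Bool.rec (motive := fun _ => Bool) (dM_6 j z1 z2 u) (dM_7 j z1 z2 u) (Nat.ble (nat_lit 48) j)
noncomputable def dM_9 (j z1 z2 u : ℕ) : Bool :=
  Bool.rec (motive := fun _ => Bool) (Bool.rec (motive := fun _ => Bool) (Bool.rec (motive := fun _ => Bool) (mRel MG [T_qi, T_p] [T_p, T_q, T_pi, T_q, T_p, T_q] M (Nat.sub (MG u) (Nat.mod (MG u) M)) (nat_lit 40) z1 u (Nat.mod (MG u) M)) (Bool.rec (motive := fun _ => Bool) (mRel MG [T_m, T_n, T_mi, T_mi, T_d, T_q, T_p, T_di] [T_mi] M (Nat.sub (MG u) (Nat.mod (MG u) M)) (nat_lit 40) z1 u (Nat.mod (MG u) M)) (mRel MG [T_n, T_pi, T_pi, T_n] [T_pi, T_n, T_pi, T_q] M (Nat.sub (MG u) (Nat.mod (MG u) M)) (nat_lit 40) z1 u (Nat.mod (MG u) M)) (Nat.ble (nat_lit 62) j)) (Nat.ble (nat_lit 61) j)) (Bool.rec (motive := fun _ => Bool) (mRel MG [T_qi, T_pi, T_qi,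 T_p, T_qi, T_pi, T_qi, T_p] [] M (Nat.sub (MG u) (Nat.mod (MG u) M)) (nat_lit 40) z1 u (Nat.mod (MG u) M)) (Bool.rec (motive := fun _ => Bool) (mRel MG [T_n, T_qi, T_p, T_n] [T_qi, T_n, T_qi, T_p] M (Nat.sub (MG u) (Nat.mod (MG u) M)) (nat_lit 40) z1 u (Nat.mod (MG u) M)) (mRel MG [T_qi, T_p, T_d, T_pi, T_q, T_ni, T_pi, T_d, T_p] [T_ni] M (Nat.sub (MG u) (Nat.mod (MG u) M)) (nat_lit 40) z1 u (Nat.mod (MG u) M)) (Nat.ble (nat_lit 65) j)) (Nat.ble (nat_lit 64) j)) (Nat.ble (nat_lit 63) j)) (Bool.rec (motive := fun _ => Bool) (Bool.rec (motive := fun _ => Bool) (mRel MG [T_n, T_qi, T_p, T_d, T_q] [T_qi, T_n, T_qi, T_p, T_d] M (Nat.sub (MG u) (Nat.mod (MG u) M)) (nat_lit 40) z1 u (Nat.mod (MG u) M)) (Bool.rec (motive := fun _ => Bool) (mRel MG [T_m, T_ni, T_mi, T_d] [T_n, T_d, T_ni, T_m, T_ni, T_mi] M (Nat.sub (MG u) (Nat.mod (MG u) M)) (nat_lit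 40) z1 u (Nat.mod (MG u) M)) (mRel MG [T_di, T_m, T_m, T_m, T_n, T_mi, T_d] [T_qi, T_p] M (Nat.sub (MG u) (Nat.mod (MG u) M)) (nat_lit 40) z1 u (Nat.mod (MG u) M)) (Nat.ble (nat_lit 68) j)) (Nat.ble (nat_lit 67) j)) (Bool.rec (motive := fun _ => Bool) (mRel MG [T_ni, T_pi, T_n, T_pi, T_q, T_ni] [T_pi, T_pi] M (Nat.sub (MG u) (Nat.mod (MG u) M)) (nat_lit 40) z1 u (Nat.mod (MG u) M)) (Bool.rec (motive := fun _ => Bool) (mRel MG [T_p, T_ni, T_pi, T_n, T_pi, T_q] [T_pi, T_n] M (Nat.sub (MG u) (Nat.mod (MG u) M)) (nat_lit 40) z1 u (Nat.mod (MG u) M)) (mRel MG [T_q, T_n, T_pi, T_pi] [T_p, T_p, T_ni, T_qi] M (Nat.sub (MG u) (Nat.mod (MG u) M)) (nat_lit 40) z1 u (Nat.mod (MG u) M)) (Nat.ble (nat_lit 71) j)) (Nat.ble (nat_lit 70) j)) (Nat.ble (nat_lit 69) j)) (Nat.ble (nat_lit 66) j)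
noncomputable def dM_10 (j z1 z2 u : ℕ) : Bool :=
  Bool.rec (motive := fun _ => Bool) (Bool.rec (motive := fun _ => Bool) (Bool.rec (motive := fun _ => Bool) (mRel MG [T_qi, T_pi, T_qi] [T_mi, T_q, T_p, T_q, T_mi] M (Nat.sub (MG u) (Nat.mod (MG u) M)) (nat_lit 40) z1 u (Nat.mod (MG u) M)) (Bool.rec (motive := fun _ => Bool) (mRel MG [T_n, T_qi, T_p, T_ni] [T_p, T_p, T_ni, T_pi] M (Nat.sub (MG u) (Nat.mod (MG u) M)) (nat_lit 40) z1 u (Nat.mod (MG u) M)) (mRel MG [T_d, T_m, T_n] [T_m, T_n, T_mi, T_n, T_d, T_ni, T_m] M (Nat.sub (MG u) (Nat.mod (MG u) M)) (nat_lit 40) z1 u (Nat.mod (MG u) M)) (Nat.ble (nat_lit 74) j)) (Nat.ble (nat_lit 73) j)) (Bool.rec (motive := fun _ => Bool) (mRel MG [T_mi, T_mi, T_d, T_qi, T_p, T_di, T_m] [T_m, T_n] M (Nat.sub (MG u) (Nat.mod (MG u) M)) (nat_lit 40) z1 u (Nat.mod (MG u) M)) (Bool.rec (motive := fun _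 => Bool) (mRel MG [T_n, T_qi, T_p, T_ni, T_p] [T_p, T_p, T_ni] M (Nat.sub (MG u) (Nat.mod (MG u) M)) (nat_lit 40) z1 u (Nat.mod (MG u) M)) (mRel MG [T_p, T_q, T_p] [T_mi, T_q, T_p, T_q, T_mi] M (Nat.sub (MG u) (Nat.mod (MG u) M)) (nat_lit 40) z1 u (Nat.mod (MG u) M)) (Nat.ble (nat_lit 77) j)) (Nat.ble (nat_lit 76) j)) (Nat.ble (nat_lit 75) j)) (Bool.rec (motive := fun _ => Bool) (Bool.rec (motive := fun _ => Bool) (mRel MG [T_pi, T_q] [T_di, T_m, T_ni, T_mi, T_mi, T_mi, T_d] M (Nat.sub (MG u) (Nat.mod (MG u) M)) (nat_lit 40) z1 u (Nat.mod (MG u) M)) (Bool.rec (motive := fun _ => Bool) (mRel MG [T_pi, T_qi] [T_q, T_mi, T_q, T_p, T_q, T_mi] M (Nat.sub (MG u) (Nat.mod (MG u) M)) (nat_lit 40) z1 u (Nat.mod (MG u) M)) (mRel MG [T_p, T_ni, T_p, T_n, T_pi] [T_q, T_ni, T_p] M (Nat.sub (MG u) (Nat.mod (MG u) M)) (nat_lit 40) z1 u (Nat.mod (MG u)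 M)) (Nat.ble (nat_lit 80) j)) (Nat.ble (nat_lit 79) j)) (Bool.rec (motive := fun _ => Bool) (mRel MG [T_pi, T_di, T_mi, T_n, T_m] [T_qi, T_di, T_mi, T_mi] M (Nat.sub (MG u) (Nat.mod (MG u) M)) (nat_lit 40) z1 u (Nat.mod (MG u) M)) (Bool.rec (motive := fun _ => Bool) (mRel MG [T_pi, T_q, T_ni, T_q, T_n, T_qi, T_p, T_d] [T_d, T_qi] M (Nat.sub (MG u) (Nat.mod (MG u) M)) (nat_lit 40) z1 u (Nat.mod (MG u) M)) (mRel MG [T_di, T_mi, T_n, T_m, T_m, T_m] [T_p, T_qi, T_di] M (Nat.sub (MG u) (Nat.mod (MG u) M)) (nat_lit 40) z1 u (Nat.mod (MG u) M)) (Nat.ble (nat_lit 83) j)) (Nat.ble (nat_lit 82) j)) (Nat.ble (nat_lit 81) j)) (Nat.ble (nat_lit 78) j)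
noncomputable def dM_11 (j z1 z2 u : ℕ) : Bool :=
  Bool.rec (motive := fun _ => Bool) (dM_9 j z1 z2 u) (dM_10 j z1 z2 u) (Nat.ble (nat_lit 72) j)
noncomputable def dM_12 (j z1 z2 u : ℕ) : Bool :=
  Bool.rec (motive := fun _ => Bool) (dM_8 j z1 z2 u) (dM_11 j z1 z2 u) (Nat.ble (nat_lit 60) j)
noncomputable def dM_13 (j z1 z2 u : ℕ) : Bool :=
  Bool.rec (motive := fun _ => Bool) (dM_5 j z1 z2 u) (dM_12 j z1 z2 u) (Nat.ble (nat_lit 36) j)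
noncomputable def dM_14 (j z1 z2 u : ℕ) : Bool :=
  Bool.rec (motive := fun _ => Bool) (Bool.rec (motive := fun _ => Bool) (Bool.rec (motive := fun _ => Bool) (mRel MG [T_mi, T_d, T_q, T_p] [T_m, T_ni, T_mi, T_mi, T_d] M (Nat.sub (MG u) (Nat.mod (MG u) M)) (nat_lit 40) z1 u (Nat.mod (MG u) M)) (mRel MG [T_p, T_ni, T_p, T_n, T_pi, T_pi] [T_q, T_ni] M (Nat.sub (MG u) (Nat.mod (MG u) M)) (nat_lit 40) z1 u (Nat.mod (MG u) M)) (Nat.ble (nat_lit 85) j)) (Bool.rec (motive := fun _ => Bool) (mRel MG [T_di, T_m, T_m, T_n, T_mi, T_mi, T_d] [T_pi, T_qi] M (Nat.sub (MG u) (Nat.mod (MG u) M)) (nat_lit 40) z1 u (Nat.mod (MG u) M)) (Bool.rec (motive := fun _ => Bool) (mRel MG [T_q, T_p, T_q, T_mi, T_q, T_p, T_q, T_mi] [] M (Nat.sub (MG u) (Nat.mod (MG u) M)) (nat_lit 40) z1 u (Nat.mod (MG u) M)) (mRel MG [T_pi, T_mi, T_q, T_p, T_q, T_mi] [T_q, T_p] M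 (Nat.sub (MG u) (Nat.mod (MG u) M)) (nat_lit 40) z1 u (Nat.mod (MG u) M)) (Nat.ble (nat_lit 88) j)) (Nat.ble (nat_lit 87) j)) (Nat.ble (nat_lit 86) j)) (Bool.rec (motive := fun _ => Bool) (Bool.rec (motive := fun _ => Bool) (mRel MG [T_q, T_p, T_m, T_qi, T_pi, T_qi, T_m] [T_pi] M (Nat.sub (MG u) (Nat.mod (MG u) M)) (nat_lit 40) z1 u (Nat.mod (MG u) M)) (Bool.rec (motive := fun _ => Bool) (mRel MG [T_q, T_n, T_qi, T_p, T_n, T_pi] [T_n, T_qi] M (Nat.sub (MG u) (Nat.mod (MG u) M)) (nat_lit 40) z1 u (Nat.mod (MG u) M)) (mRel MG [T_p, T_qi, T_pi, T_qi, T_p] [T_q, T_p, T_q] M (Nat.sub (MG u) (Nat.mod (MG u) M)) (nat_lit 40) z1 u (Nat.mod (MG u) M)) (Nat.ble (nat_lit 91) j)) (Nat.ble (nat_lit 90) j)) (Bool.rec (motive := fun _ => Bool) (mRel MG [T_pi, T_qi, T_p, T_qi] [T_q, T_pi, T_q, T_p] M (Nat.sub (MG u) (Nat.mod (MG u) M)) (nat_lit 40) z1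 u (Nat.mod (MG u) M)) (Bool.rec (motive := fun _ => Bool) (mRel MG [T_mi, T_d, T_qi, T_p, T_di] [T_m, T_m, T_n, T_mi] M (Nat.sub (MG u) (Nat.mod (MG u) M)) (nat_lit 40) z1 u (Nat.mod (MG u) M)) (mRel MG [T_p, T_qi, T_pi, T_di, T_ni, T_m] [T_pi, T_qi, T_pi, T_di] M (Nat.sub (MG u) (Nat.mod (MG u) M)) (nat_lit 40) z1 u (Nat.mod (MG u) M)) (Nat.ble (nat_lit 94) j)) (Nat.ble (nat_lit 93) j)) (Nat.ble (nat_lit 92) j)) (Nat.ble (nat_lit 89) j)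
noncomputable def dM_15 (j z1 z2 u : ℕ) : Bool :=
  Bool.rec (motive := fun _ => Bool) (Bool.rec (motive := fun _ => Bool) (Bool.rec (motive := fun _ => Bool) (mRel MG [T_p, T_p, T_ni, T_pi, T_n, T_pi, T_q] [T_n] M (Nat.sub (MG u) (Nat.mod (MG u) M)) (nat_lit 40) z1 u (Nat.mod (MG u) M)) (Bool.rec (motive := fun _ => Bool) (mRel MG [T_p, T_qi, T_pi] [T_q, T_p, T_q, T_pi, T_q] M (Nat.sub (MG u) (Nat.mod (MG u) M)) (nat_lit 40) z1 u (Nat.mod (MG u) M)) (mRel MG [T_pi, T_qi, T_p] [T_q, T_pi, T_q, T_p, T_q] M (Nat.sub (MG u) (Nat.mod (MG u) M)) (nat_lit 40) z1 u (Nat.mod (MG u) M)) (Nat.ble (nat_lit 97) j)) (Nat.ble (nat_lit 96) j)) (Bool.rec (motive := fun _ => Bool) (mRel MG [T_p, T_di, T_m, T_m, T_n] [T_qi, T_di, T_m, T_m] M (Nat.sub (MG u) (Nat.mod (MG u) M)) (nat_lit 40) z1 u (Nat.mod (MG u) M)) (Bool.rec (motive := fun _ => Bool) (mRel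 MG [T_p, T_ni, T_qi, T_p] [T_pi, T_q, T_n, T_pi] M (Nat.sub (MG u) (Nat.mod (MG u) M)) (nat_lit 40) z1 u (Nat.mod (MG u) M)) (mRel MG [T_n, T_pi, T_q, T_ni] [T_p, T_n, T_pi, T_pi] M (Nat.sub (MG u) (Nat.mod (MG u) M)) (nat_lit 40) z1 u (Nat.mod (MG u) M)) (Nat.ble (nat_lit 100) j)) (Nat.ble (nat_lit 99) j)) (Nat.ble (nat_lit 98) j)) (Bool.rec (motive := fun _ => Bool) (Bool.rec (motive := fun _ => Bool) (mRel MG [T_qi, T_n, T_qi, T_p] [T_n, T_qi, T_p, T_n] M (Nat.sub (MG u) (Nat.mod (MG u) M)) (nat_lit 40) z1 u (Nat.mod (MG u) M)) (Bool.rec (motive := fun _ => Bool) (mRel MG [T_pi, T_di, T_ni, T_m] [T_q, T_pi, T_pi, T_qi, T_pi, T_di] M (Nat.sub (MG u) (Nat.mod (MG u) M)) (nat_lit 40) z1 u (Nat.mod (MG u) M)) (mRel MG [T_n, T_mi, T_d, T_pi, T_q, T_di, T_m] [T_mi, T_mi] M (Nat.sub (MG u) (Nat.mod (MG u) M)) (nat_lit 40) z1 u (Nat.mod (MG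 u) M)) (Nat.ble (nat_lit 103) j)) (Nat.ble (nat_lit 102) j)) (Bool.rec (motive := fun _ => Bool) (mRel MG [T_ni, T_p, T_p] [T_qi, T_p, T_ni, T_p, T_n] M (Nat.sub (MG u) (Nat.mod (MG u) M)) (nat_lit 40) z1 u (Nat.mod (MG u) M)) (Bool.rec (motive := fun _ => Bool) (mRel MG [T_mi, T_mi, T_d, T_qi, T_p] [T_m, T_n, T_mi, T_d] M (Nat.sub (MG u) (Nat.mod (MG u) M)) (nat_lit 40) z1 u (Nat.mod (MG u) M)) (mRel MG [T_q, T_ni, T_qi, T_n, T_qi, T_p, T_ni] [T_p] M (Nat.sub (MG u) (Nat.mod (MG u) M)) (nat_lit 40) z1 u (Nat.mod (MG u) M)) (Nat.ble (nat_lit 106) j)) (Nat.ble (nat_lit 105) j)) (Nat.ble (nat_lit 104) j)) (Nat.ble (nat_lit 101) j)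
noncomputable def dM_16 (j z1 z2 u : ℕ) : Bool :=
  Bool.rec (motive := fun _ => Bool) (dM_14 j z1 z2 u) (dM_15 j z1 z2 u) (Nat.ble (nat_lit 95) j)
noncomputable def dM_17 (j z1 z2 u : ℕ) : Bool :=
  Bool.rec (motive := fun _ => Bool) (Bool.rec (motive := fun _ => Bool) (Bool.rec (motive := fun _ => Bool) (mRel MG [T_qi, T_pi, T_qi, T_p, T_qi, T_pi] [T_pi, T_q] M (Nat.sub (MG u) (Nat.mod (MG u) M)) (nat_lit 40) z1 u (Nat.mod (MG u) M)) (Bool.rec (motive := fun _ => Bool) (mRel MG [T_q] [T_pi, T_qi, T_p, T_qi, T_pi, T_qi, T_p] M (Nat.sub (MG u) (Nat.mod (MG u) M)) (nat_lit 40) z1 u (Nat.mod (MG u) M)) (mRel MG [T_di, T_m, T_m, T_n, T_mi, T_mi] [T_pi, T_qi, T_di] M (Nat.sub (MG u) (Nat.mod (MG u) M)) (nat_lit 40) z1 u (Nat.mod (MG u) M)) (Nat.ble (nat_lit 109) j)) (Nat.ble (nat_lit 108) j)) (Bool.rec (motive := fun _ => Bool) (mRel MG [T_qi,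 T_p] [T_di, T_m, T_m, T_m, T_n, T_mi, T_d] M (Nat.sub (MG u) (Nat.mod (MG u) M)) (nat_lit 40) z1 u (Nat.mod (MG u) M)) (Bool.rec (motive := fun _ => Bool) (mRel MG [T_mi, T_ni, T_m] [T_m, T_m, T_d, T_q, T_pi, T_di] M (Nat.sub (MG u) (Nat.mod (MG u) M)) (nat_lit 40) z1 u (Nat.mod (MG u) M)) (mRel MG [T_p, T_qi, T_di, T_mi] [T_di, T_mi, T_n, T_m, T_m] M (Nat.sub (MG u) (Nat.mod (MG u) M)) (nat_lit 40) z1 u (Nat.mod (MG u) M)) (Nat.ble (nat_lit 112) j)) (Nat.ble (nat_lit 111) j)) (Nat.ble (nat_lit 110) j)) (Bool.rec (motive := fun _ => Bool) (Bool.rec (motive := fun _ => Bool) (mRel MG [T_ni, T_qi] [T_pi, T_ni, T_q, T_n, T_pi, T_ni] M (Nat.sub (MG u) (Nat.mod (MG u) M)) (nat_lit 40) z1 u (Nat.mod (MG u) M)) (Bool.rec (motive := fun _ => Bool) (mRel MG [T_mi, T_q, T_p, T_q, T_mi, T_pi] [T_p, T_q] M (Nat.sub (MG u) (Nat.mod (MG u) M)) (nat_lit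 40) z1 u (Nat.mod (MG u) M)) (mRel MG [T_mi, T_mi, T_mi, T_ni] [T_d, T_q, T_pi, T_di, T_mi] M (Nat.sub (MG u) (Nat.mod (MG u) M)) (nat_lit 40) z1 u (Nat.mod (MG u) M)) (Nat.ble (nat_lit 115) j)) (Nat.ble (nat_lit 114) j)) (Bool.rec (motive := fun _ => Bool) (mRel MG [T_q, T_n, T_pi, T_pi, T_q, T_n] [T_p, T_p] M (Nat.sub (MG u) (Nat.mod (MG u) M)) (nat_lit 40) z1 u (Nat.mod (MG u) M)) (Bool.rec (motive := fun _ => Bool) (mRel MG [T_p, T_ni, T_qi] [T_ni, T_q, T_n, T_pi, T_ni] M (Nat.sub (MG u) (Nat.mod (MG u) M)) (nat_lit 40) z1 u (Nat.mod (MG u) M)) (mRel MG [T_pi, T_n, T_qi, T_p, T_ni, T_p] [T_p, T_ni] M (Nat.sub (MG u) (Nat.mod (MG u) M)) (nat_lit 40) z1 u (Nat.mod (MG u) M)) (Nat.ble (nat_lit 118) j)) (Nat.ble (nat_lit 117) j)) (Nat.ble (nat_lit 116) j)) (Nat.ble (nat_lit 113) j)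
noncomputable def dM_18 (j z1 z2 u : ℕ) : Bool :=
  Bool.rec (motive := fun _ => Bool) (Bool.rec (motive := fun _ => Bool) (Bool.rec (motive := fun _ => Bool) (mRel MG [T_ni, T_qi, T_n, T_qi] [T_qi, T_p, T_n, T_pi] M (Nat.sub (MG u) (Nat.mod (MG u) M)) (nat_lit 40) z1 u (Nat.mod (MG u) M)) (Bool.rec (motive := fun _ => Bool) (mRel MG [T_p, T_n, T_pi, T_q, T_ni] [T_q, T_ni, T_qi] M (Nat.sub (MG u) (Nat.mod (MG u) M)) (nat_lit 40) z1 u (Nat.mod (MG u) M)) (mRel MG [T_p, T_p, T_ni, T_qi] [T_q, T_n, T_pi, T_pi] M (Nat.sub (MG u) (Nat.mod (MG u) M)) (nat_lit 40) z1 u (Nat.mod (MG u) M)) (Nat.ble (nat_lit 121) j)) (Nat.ble (nat_lit 120) j)) (Bool.rec (motive := fun _ => Bool) (mRel MG [T_n, T_mi, T_d, T_pi, T_q, T_di] [T_mi, T_mi, T_mi] M (Nat.sub (MG u) (Nat.mod (MG u) M)) (nat_lit 40) z1 u (Nat.mod (MG u) M)) (Bool.rec (motive := fun _ =>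 Bool) (mRel MG [T_pi, T_pi, T_n, T_qi, T_p, T_ni, T_p, T_n] [] M (Nat.sub (MG u) (Nat.mod (MG u) M)) (nat_lit 40) z1 u (Nat.mod (MG u) M)) (mRel MG [T_pi, T_q, T_p, T_q] [T_qi, T_pi, T_qi, T_p] M (Nat.sub (MG u) (Nat.mod (MG u) M)) (nat_lit 40) z1 u (Nat.mod (MG u) M)) (Nat.ble (nat_lit 124) j)) (Nat.ble (nat_lit 123) j)) (Nat.ble (nat_lit 122) j)) (Bool.rec (motive := fun _ => Bool) (Bool.rec (motive := fun _ => Bool) (mRel MG [T_mi, T_mi, T_mi, T_ni, T_m, T_d] [T_d, T_q, T_pi] M (Nat.sub (MG u) (Nat.mod (MG u) M)) (nat_lit 40) z1 u (Nat.mod (MG u) M)) (Bool.rec (motive := fun _ => Bool) (mRel MG [T_m, T_m] [T_ni, T_m, T_d, T_p, T_qi, T_di, T_mi] M (Nat.sub (MG u) (Nat.mod (MG u) M)) (nat_lit 40) z1 u (Nat.mod (MG u) M)) (mRel MG [T_m, T_m, T_m] [T_d, T_qi, T_p, T_di, T_m, T_ni] M (Nat.sub (MG u) (Nat.mod (MG u) M)) (nat_lit 40) z1 u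 (Nat.mod (MG u) M)) (Nat.ble (nat_lit 127) j)) (Nat.ble (nat_lit 126) j)) (Bool.rec (motive := fun _ => Bool) (mRel MG [T_ni, T_qi, T_p, T_p, T_ni] [T_pi, T_pi, T_q] M (Nat.sub (MG u) (Nat.mod (MG u) M)) (nat_lit 40) z1 u (Nat.mod (MG u) M)) (Bool.rec (motive := fun _ => Bool) (mRel MG [T_n, T_m, T_m, T_m, T_d, T_q] [T_m, T_d, T_p] M (Nat.sub (MG u) (Nat.mod (MG u) M)) (nat_lit 40) z1 u (Nat.mod (MG u) M)) (mRel MG [T_m, T_n, T_mi, T_n, T_d, T_ni, T_m, T_ni] [T_d, T_m] M (Nat.sub (MG u) (Nat.mod (MG u) M)) (nat_lit 40) z1 u (Nat.mod (MG u) M)) (Nat.ble (nat_lit 130) j)) (Nat.ble (nat_lit 129) j)) (Nat.ble (nat_lit 128) j)) (Nat.ble (nat_lit 125) j)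
noncomputable def dM_19 (j z1 z2 u : ℕ) : Bool :=
  Bool.rec (motive := fun _ => Bool) (dM_17 j z1 z2 u) (dM_18 j z1 z2 u) (Nat.ble (nat_lit 119) j)
noncomputable def dM_20 (j z1 z2 u : ℕ) : Bool :=
  Bool.rec (motive := fun _ => Bool) (dM_16 j z1 z2 u) (dM_19 j z1 z2 u) (Nat.ble (nat_lit 107) j)
noncomputable def dM_21 (j z1 z2 u : ℕ) : Bool :=
  Bool.rec (motive := fun _ => Bool) (Bool.rec (motive := fun _ => Bool) (Bool.rec (motive := fun _ => Bool) (mRel MG [T_mi, T_q, T_p, T_q, T_mi, T_q] [T_qi, T_pi] M (Nat.sub (MG u) (Nat.mod (MG u) M)) (nat_lit 40) z1 u (Nat.mod (MG u) M)) (Bool.rec (motive := fun _ => Bool) (mRel MG [T_m, T_m, T_n, T_mi] [T_d, T_pi, T_qi, T_di, T_m] M (Nat.sub (MG u) (Nat.mod (MG u) M)) (nat_lit 40) z1 u (Nat.mod (MG u) M)) (mRel MG [T_p, T_n, T_pi, T_pi] [T_n, T_pi, T_q, T_ni] M (Nat.sub (MG u) (Nat.mod (MG u)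 M)) (nat_lit 40) z1 u (Nat.mod (MG u) M)) (Nat.ble (nat_lit 133) j)) (Nat.ble (nat_lit 132) j)) (Bool.rec (motive := fun _ => Bool) (mRel MG [T_n, T_m, T_m, T_m] [T_m, T_d, T_p, T_qi, T_di] M (Nat.sub (MG u) (Nat.mod (MG u) M)) (nat_lit 40) z1 u (Nat.mod (MG u) M)) (Bool.rec (motive := fun _ => Bool) (mRel MG [T_m, T_ni, T_mi, T_mi, T_d] [T_mi, T_d, T_q, T_p] M (Nat.sub (MG u) (Nat.mod (MG u) M)) (nat_lit 40) z1 u (Nat.mod (MG u) M)) (mRel MG [T_q, T_ni, T_q, T_n, T_qi, T_p, T_d, T_q] [T_p, T_d] M (Nat.sub (MG u) (Nat.mod (MG u) M)) (nat_lit 40) z1 u (Nat.mod (MG u) M)) (Nat.ble (nat_lit 136) j)) (Nat.ble (nat_lit 135) j)) (Nat.ble (nat_lit 134) j)) (Bool.rec (motive := fun _ => Bool) (Bool.rec (motive := fun _ => Bool) (mRel MG [T_m, T_m, T_ni, T_mi, T_mi, T_d] [T_d, T_q, T_p] M (Nat.sub (MG u) (Nat.mod (MG u) M)) (nat_lit 40) z1 u (Nat.mod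 (MG u) M)) (Bool.rec (motive := fun _ => Bool) (mRel MG [T_pi, T_q, T_di] [T_di, T_m, T_ni, T_mi, T_mi, T_mi] M (Nat.sub (MG u) (Nat.mod (MG u) M)) (nat_lit 40) z1 u (Nat.mod (MG u) M)) (mRel MG [T_p, T_q, T_mi] [T_qi, T_m, T_qi, T_pi, T_qi] M (Nat.sub (MG u) (Nat.mod (MG u) M)) (nat_lit 40) z1 u (Nat.mod (MG u) M)) (Nat.ble (nat_lit 139) j)) (Nat.ble (nat_lit 138) j)) (Bool.rec (motive := fun _ => Bool) (mRel MG [T_q, T_p, T_q] [T_m, T_p, T_q, T_p, T_m] M (Nat.sub (MG u) (Nat.mod (MG u) M)) (nat_lit 40) z1 u (Nat.mod (MG u) M)) (Bool.rec (motive := fun _ => Bool) (mRel MG [T_p, T_qi] [T_q, T_p, T_q, T_pi, T_q, T_p] M (Nat.sub (MG u) (Nat.mod (MG u) M)) (nat_lit 40) z1 u (Nat.mod (MG u) M)) (mRel MG [T_di, T_mi, T_mi, T_mi, T_ni, T_m, T_d, T_p] [T_q] M (Nat.sub (MG u) (Nat.mod (MG u) M)) (nat_lit 40) z1 u (Nat.mod (MG u) M)) (Nat.ble (nat_lit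 142) j)) (Nat.ble (nat_lit 141) j)) (Nat.ble (nat_lit 140) j)) (Nat.ble (nat_lit 137) j)
noncomputable def dM_22 (j z1 z2 u : ℕ) : Bool :=
  Bool.rec (motive := fun _ => Bool) (Bool.rec (motive := fun _ => Bool) (Bool.rec (motive := fun _ => Bool) (mRel MG [T_pi, T_qi, T_pi, T_mi, T_q, T_p, T_q, T_mi] [] M (Nat.sub (MG u) (Nat.mod (MG u) M)) (nat_lit 40) z1 u (Nat.mod (MG u) M)) (Bool.rec (motive := fun _ => Bool) (mRel MG [T_mi, T_mi, T_ni, T_m, T_d, T_p, T_qi, T_di] [T_m] M (Nat.sub (MG u) (Nat.mod (MG u) M)) (nat_lit 40) z1 u (Nat.mod (MG u) M)) (mRel MG [T_d, T_p, T_qi, T_di, T_mi] [T_mi, T_n, T_m, T_m] M (Nat.sub (MG u) (Nat.mod (MG u) M)) (nat_lit 40) z1 u (Nat.mod (MG u) M)) (Nat.ble (nat_lit 145) j)) (Nat.ble (nat_lit 144) j)) (Bool.rec (motive := fun _ => Bool) (mRel MG [T_p, T_q, T_p, T_m, T_qi, T_pi, T_qi] [T_mi] M (Nat.sub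 (MG u) (Nat.mod (MG u) M)) (nat_lit 40) z1 u (Nat.mod (MG u) M)) (Bool.rec (motive := fun _ => Bool) (mRel MG [T_ni, T_p] [T_pi, T_q, T_ni, T_p, T_p, T_ni] M (Nat.sub (MG u) (Nat.mod (MG u) M)) (nat_lit 40) z1 u (Nat.mod (MG u) M)) (mRel MG [T_ni, T_q] [T_p, T_ni, T_qi, T_n, T_p, T_ni] M (Nat.sub (MG u) (Nat.mod (MG u) M)) (nat_lit 40) z1 u (Nat.mod (MG u) M)) (Nat.ble (nat_lit 148) j)) (Nat.ble (nat_lit 147) j)) (Nat.ble (nat_lit 146) j)) (Bool.rec (motive := fun _ => Bool) (Bool.rec (motive := fun _ => Bool) (mRel MG [T_q, T_pi, T_di, T_mi] [T_di, T_mi, T_mi, T_mi, T_ni] M (Nat.sub (MG u) (Nat.mod (MG u) M)) (nat_lit 40) z1 u (Nat.mod (MG u) M)) (Bool.rec (motive := fun _ => Bool) (mRel MG [T_qi, T_p] [T_ni, T_p, T_p, T_ni, T_pi, T_n] M (Nat.sub (MG u) (Nat.mod (MG u) M)) (nat_lit 40) z1 u (Nat.mod (MG u) M)) (mRel MG [T_pi, T_q, T_ni,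 T_qi] [T_n, T_pi, T_q, T_ni] M (Nat.sub (MG u) (Nat.mod (MG u) M)) (nat_lit 40) z1 u (Nat.mod (MG u) M)) (Nat.ble (nat_lit 151) j)) (Nat.ble (nat_lit 150) j)) (Bool.rec (motive := fun _ => Bool) (mRel MG [T_mi, T_d] [T_ni, T_mi, T_mi, T_mi, T_d, T_qi, T_p] M (Nat.sub (MG u) (Nat.mod (MG u) M)) (nat_lit 40) z1 u (Nat.mod (MG u) M)) (Bool.rec (motive := fun _ => Bool) (mRel MG [T_qi, T_di, T_mi, T_mi, T_mi, T_ni, T_m] [T_pi, T_di] M (Nat.sub (MG u) (Nat.mod (MG u) M)) (nat_lit 40) z1 u (Nat.mod (MG u) M)) (mRel MG [T_q, T_p, T_q, T_mi, T_pi] [T_m, T_p, T_q] M (Nat.sub (MG u) (Nat.mod (MG u) M)) (nat_lit 40) z1 u (Nat.mod (MG u) M)) (Nat.ble (nat_lit 154) j)) (Nat.ble (nat_lit 153) j)) (Nat.ble (nat_lit 152) j)) (Nat.ble (nat_lit 149) j)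
noncomputable def dM_23 (j z1 z2 u : ℕ) : Bool :=
  Bool.rec (motive := fun _ => Bool) (dM_21 j z1 z2 u) (dM_22 j z1 z2 u) (Nat.ble (nat_lit 143) j)
noncomputable def dM_24 (j z1 z2 u : ℕ) : Bool :=
  Bool.rec (motive := fun _ => Bool) (Bool.rec (motive := fun _ => Bool) (Bool.rec (motive := fun _ => Bool) (mRel MG [T_p, T_qi, T_di, T_mi, T_mi, T_mi, T_ni, T_m, T_d] [] M (Nat.sub (MG u) (Nat.mod (MG u) M)) (nat_lit 40) z1 u (Nat.mod (MG u) M)) (Bool.rec (motive := fun _ => Bool) (mRel MG [T_qi, T_m, T_p, T_q, T_p] [T_p, T_q, T_mi] M (Nat.sub (MG u) (Nat.mod (MG u) M)) (nat_lit 40) z1 u (Nat.mod (MG u) M)) (mRel MG [T_q, T_ni, T_qi, T_n] [T_p, T_n, T_pi, T_q] M (Nat.sub (MG u) (Nat.mod (MG u) M)) (nat_lit 40) z1 u (Nat.mod (MG u) M)) (Nat.ble (nat_lit 157) j)) (Nat.ble (nat_lit 156) j)) (Bool.rec (motive := fun _ => Bool) (mRel MG [T_q,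 T_p] [T_di, T_m, T_m, T_ni, T_mi, T_mi, T_d] M (Nat.sub (MG u) (Nat.mod (MG u) M)) (nat_lit 40) z1 u (Nat.mod (MG u) M)) (Bool.rec (motive := fun _ => Bool) (mRel MG [T_p, T_q] [T_qi, T_m, T_qi, T_pi, T_qi, T_m] M (Nat.sub (MG u) (Nat.mod (MG u) M)) (nat_lit 40) z1 u (Nat.mod (MG u) M)) (mRel MG [T_p, T_ni, T_qi, T_n, T_p, T_ni] [T_ni, T_q] M (Nat.sub (MG u) (Nat.mod (MG u) M)) (nat_lit 40) z1 u (Nat.mod (MG u) M)) (Nat.ble (nat_lit 160) j)) (Nat.ble (nat_lit 159) j)) (Nat.ble (nat_lit 158) j)) (Bool.rec (motive := fun _ => Bool) (Bool.rec (motive := fun _ => Bool) (mRel MG [T_mi, T_mi, T_d, T_pi, T_qi, T_di] [T_n, T_mi, T_mi] M (Nat.sub (MG u) (Nat.mod (MG u) M)) (nat_lit 40) z1 u (Nat.mod (MG u) M)) (Bool.rec (motive := fun _ => Bool) (mRel MG [T_n, T_di, T_ni, T_m, T_ni, T_mi] [T_m, T_ni, T_mi, T_di] M (Nat.sub (MG u) (Nat.mod (MG u)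 M)) (nat_lit 40) z1 u (Nat.mod (MG u) M)) (mRel MG [T_ni, T_mi, T_mi, T_d, T_pi, T_qi, T_di, T_m] [T_mi] M (Nat.sub (MG u) (Nat.mod (MG u) M)) (nat_lit 40) z1 u (Nat.mod (MG u) M)) (Nat.ble (nat_lit 163) j)) (Nat.ble (nat_lit 162) j)) (Bool.rec (motive := fun _ => Bool) (mRel MG [T_pi, T_di, T_mi] [T_q, T_p, T_p, T_qi, T_pi, T_di, T_ni] M (Nat.sub (MG u) (Nat.mod (MG u) M)) (nat_lit 40) z1 u (Nat.mod (MG u) M)) (Bool.rec (motive := fun _ => Bool) (mRel MG [T_pi, T_q, T_ni, T_pi, T_di] [T_d, T_pi, T_q, T_ni, T_pi] M (Nat.sub (MG u) (Nat.mod (MG u) M)) (nat_lit 40) z1 u (Nat.mod (MG u) M)) (mRel MG [T_m, T_m, T_d, T_q, T_pi, T_di, T_mi] [T_mi, T_ni] M (Nat.sub (MG u) (Nat.mod (MG u) M)) (nat_lit 40) z1 u (Nat.mod (MG u) M)) (Nat.ble (nat_lit 166) j)) (Nat.ble (nat_lit 165) j)) (Nat.ble (nat_lit 164) j)) (Nat.ble (nat_lit 161) j)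
noncomputable def dM_25 (j z1 z2 u : ℕ) : Bool :=
  Bool.rec (motive := fun _ => Bool) (Bool.rec (motive := fun _ => Bool) (Bool.rec (motive := fun _ => Bool) (mRel MG [T_pi, T_qi, T_pi] [T_m, T_qi, T_pi, T_qi, T_m] M (Nat.sub (MG u) (Nat.mod (MG u) M)) (nat_lit 40) z1 u (Nat.mod (MG u) M)) (Bool.rec (motive := fun _ => Bool) (mRel MG [T_ni, T_m] [T_d, T_p, T_q, T_pi, T_pi, T_qi, T_pi, T_di] M (Nat.sub (MG u) (Nat.mod (MG u) M)) (nat_lit 40) z1 u (Nat.mod (MG u) M)) (mRel MG [T_n, T_n] [T_ni] M (Nat.sub (MG u) (Nat.mod (MG u) M)) (nat_lit 40) z1 u (Nat.mod (MG u) M)) (Nat.ble (nat_lit 169) j)) (Nat.ble (nat_lit 168) j)) (Bool.rec (motive := fun _ => Bool) (mRel MG [T_ni, T_q, T_n, T_qi, T_p, T_d, T_q] [T_qi, T_p, T_d] M (Nat.sub (MG u) (Nat.mod (MG u) M)) (nat_lit 40) z1 u (Nat.mod (MG u) M)) (Bool.rec (motive := fun _ => Bool) (mRel MG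 [T_qi, T_p, T_d, T_pi, T_q] [T_ni, T_pi, T_di, T_p, T_n] M (Nat.sub (MG u) (Nat.mod (MG u) M)) (nat_lit 40) z1 u (Nat.mod (MG u) M)) (mRel MG [T_q, T_mi, T_q, T_p, T_q, T_mi] [T_pi, T_qi] M (Nat.sub (MG u) (Nat.mod (MG u) M)) (nat_lit 40) z1 u (Nat.mod (MG u) M)) (Nat.ble (nat_lit 172) j)) (Nat.ble (nat_lit 171) j)) (Nat.ble (nat_lit 170) j)) (Bool.rec (motive := fun _ => Bool) (Bool.rec (motive := fun _ => Bool) (mRel MG [T_qi, T_pi, T_mi, T_q, T_p, T_q, T_mi] [T_p] M (Nat.sub (MG u) (Nat.mod (MG u) M)) (nat_lit 40) z1 u (Nat.mod (MG u) M)) (Bool.rec (motive := fun _ => Bool) (mRel MG [T_mi, T_n, T_m, T_m] [T_d, T_p, T_qi, T_di, T_mi] M (Nat.sub (MG u) (Nat.mod (MG u) M)) (nat_lit 40) z1 u (Nat.mod (MG u) M)) (mRel MG [T_mi, T_mi, T_mi, T_ni, T_m] [T_d, T_q, T_pi, T_di] M (Nat.sub (MG u) (Nat.mod (MG u) M)) (nat_lit 40) z1 u (Nat.mod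 (MG u) M)) (Nat.ble (nat_lit 175) j)) (Nat.ble (nat_lit 174) j)) (Bool.rec (motive := fun _ => Bool) (mRel MG [T_q, T_ni, T_q, T_n, T_qi, T_p, T_d] [T_p, T_d, T_qi] M (Nat.sub (MG u) (Nat.mod (MG u) M)) (nat_lit 40) z1 u (Nat.mod (MG u) M)) (Bool.rec (motive := fun _ => Bool) (mRel MG [T_ni, T_p, T_p, T_ni] [T_qi, T_p, T_ni, T_p] M (Nat.sub (MG u) (Nat.mod (MG u) M)) (nat_lit 40) z1 u (Nat.mod (MG u) M)) (mRel MG [T_ni, T_mi, T_d, T_m, T_n] [T_mi, T_n, T_d, T_ni, T_m] M (Nat.sub (MG u) (Nat.mod (MG u) M)) (nat_lit 40) z1 u (Nat.mod (MG u) M)) (Nat.ble (nat_lit 178) j)) (Nat.ble (nat_lit 177) j)) (Nat.ble (nat_lit 176) j)) (Nat.ble (nat_lit 173) j)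
noncomputable def dM_26 (j z1 z2 u : ℕ) : Bool :=
  Bool.rec (motive := fun _ => Bool) (dM_24 j z1 z2 u) (dM_25 j z1 z2 u) (Nat.ble (nat_lit 167) j)
noncomputable def dM_27 (j z1 z2 u : ℕ) : Bool :=
  Bool.rec (motive := fun _ => Bool) (dM_23 j z1 z2 u) (dM_26 j z1 z2 u) (Nat.ble (nat_lit 155) j)
noncomputable def dM_28 (j z1 z2 u : ℕ) : Bool :=
  Bool.rec (motive := fun _ => Bool) (dM_20 j z1 z2 u) (dM_27 j z1 z2 u) (Nat.ble (nat_lit 131) j)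
noncomputable def dM_29 (j z1 z2 u : ℕ) : Bool :=
  Bool.rec (motive := fun _ => Bool) (dM_13 j z1 z2 u) (dM_28 j z1 z2 u) (Nat.ble (nat_lit 84) j)
noncomputable def dM_30 (j z1 z2 u : ℕ) : Bool :=
  Bool.rec (motive := fun _ => Bool) (dM_0 j z1 z2 u) (dM_29 j z1 z2 u) (Nat.ble (nat_lit 11) j)
noncomputable def chkM (u : ℕ) : Bool :=
  Bool.rec (motive := fun _ => Bool) (band (Nat.ble (Nat.succ (Nat.mod (MG u) M)) u) (dM_30 (Nat.land (MR u) (nat_lit 255)) (Nat.land (Nat.shiftRight (MR u) (nat_lit 8)) (nat_lit 1023)) (Nat.shiftRight (MR u) (nat_lit 18)) u)) true (Nat.ble A (MG u))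
noncomputable def chkN (u : ℕ) : Bool :=
  band (chk_m (Nat.land (Nat.shiftRight (RS u) (nat_lit 0)) (nat_lit 63)) u) (band (chk_mi (Nat.land (Nat.shiftRight (RS u) (nat_lit 6)) (nat_lit 63)) u) (band (chk_n (Nat.land (Nat.shiftRight (RS u) (nat_lit 12)) (nat_lit 63)) u) (band (chk_ni (Nat.land (Nat.shiftRight (RS u) (nat_lit 18)) (nat_lit 63)) u) (band (chk_p (Nat.land (Nat.shiftRight (RS u) (nat_lit 24)) (nat_lit 63)) u) (band (chk_pi (Nat.land (Nat.shiftRight (RS u) (nat_lit 30)) (nat_lit 63)) u) (band (chk_q (Nat.land (Nat.shiftRight (RS u) (nat_lit 36)) (nat_lit 63)) u) (band (chk_qi (Nat.land (Nat.shiftRight (RS u) (nat_lit 42)) (nat_lit 63)) u) (band (chk_d (Nat.land (Nat.shiftRight (RS u) (nat_lit 48)) (nat_lit 63)) u) (band (chk_di (Nat.land (Nat.shiftRight (RS u) (nat_lit 54)) (nat_lit 63)) u) (chkM u))))))))))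
noncomputable def chkP (u : ℕ) : Bool := Bool.rec (motive := fun _ => Bool) (chkN u) true (Nat.ble M u)
noncomputable def liveP (u : ℕ) : Bool := Bool.rec (motive := fun _ => Bool) (Nat.ble A (MG u)) false (Nat.ble M u)
end H64.TCHSE
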